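import Cfsg.Agent.Lib.Known.OddInvol.Torus
import Cfsg.Agent.Lib.Chev.All
import Cfsg.Agent.Lib.Chev.Orders

/-!
# The Weyl group of `G2` and the characters fixed by its elements
-/

set_option autoImplicit false
set_option maxRecDepth 100000

namespace CfsgLib.Chev.G2Orders

open Cfsg.Lie CfsgLib.Chev.Table CfsgLib.Chev.OddInvol

universe v

theorem tabOK : TabOK chevG2 DataG2.tab := ⟨DataG2.facts, DataG2.chk_arrays, DataG2.chk_chain⟩

/-- Words for the elements of the Weyl group. -/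
def words : List (List ℕ) :=
  [[], [0], [1], [0, 1, 0], [1, 0, 1], [0, 1, 0, 1, 0], [1, 0, 1, 0, 1], [0, 1, 0, 1, 0, 1],
    [0, 1, 0, 1], [1, 0, 1, 0], [0, 1], [1, 0]]

/-- The element of a word. -/
noncomputable def wp (k : ℕ) : Equiv.Perm (Fin chevG2.nroots) :=
  sW chevG2 (toW chevG2 (words.getD k []))

/-- The action of a word on the roots. -/
def wa (k s : ℕ) : ℕ := LacedInvol.actT DataG2.tab (words.getD k []) s

/-- The coordinates of the roots. -/
def cr (r j : ℕ) : ℤ := DataG2.tab.co r j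

theorem words_ok : ∀ k : Fin 12, (∀ i ∈ words.getD k.val [], i < DataG2.tab.rank) := by decide +kernel

theorem wp_val {k : ℕ} (hk : k < 12) (s : Fin chevG2.nroots) : (wp k s).val = wa k s.val :=
  act_val tabOK (words_ok ⟨k, hk⟩) s

theorem words_inj : ∀ j k : Fin 12, (wa j.val 7 = wa k.val 7 ∧ wa j.val 6 = wa k.val 6) → j = k := by
  decide +kernel

theorem mem_wFin_iff {σ : Equiv.Perm (Fin chevG2.nroots)} :
    σ ∈ wFin chevG2 chevG2.rank ↔ ∃ k < 12, σ = wp k := by
  classical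
  have hsub : (Finset.range 12).image wp ⊆ wFin chevG2 chevG2.rank := by
    intro x hx
    obtain ⟨k, -, rfl⟩ := Finset.mem_image.1 hx
    exact mem_wFin_rank.2 ⟨_, rfl⟩
  have hn : (7 : ℕ) < chevG2.nroots ∧ (6 : ℕ) < chevG2.nroots := by decide +kernel
  have hinj : Set.InjOn wp (Finset.range 12 : Finset ℕ) := by
    intro j hj k hk e
    rw [Finset.mem_coe, Finset.mem_range] at hj hk
    have h7 := congrArg (fun σ => (σ ⟨7, hn.1⟩ : Fin chevG2.nroots).val) e
    have h6 := congrArg (fun σ => (σ ⟨6, hn.2⟩ : Fin chevG2.nroots).val) e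
    simp only [wp_val hj, wp_val hk] at h7 h6
    exact congrArg Fin.val (words_inj ⟨j, hj⟩ ⟨k, hk⟩ ⟨h7, h6⟩)
  rw [← Finset.eq_of_subset_of_card_le hsub (by
    rw [Finset.card_image_of_injOn hinj, Finset.card_range, DataG2.weyl_poincare.2])]
  simp [Finset.mem_image, eq_comm]

theorem involutions : ∀ k : Fin 8, ∀ s : Fin 12, wa k.val (wa k.val s.val) = s.val := by decide +kernel

theorem refl_data : ∀ k : Fin 7, k.val ≠ 0 → ∃ r s : Fin 12,
    wa k.val r.val = 11 - r.val ∧ wa k.val (11 - r.val) = r.val ∧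
      ∀ j : Fin 2, cr s.val j.val - cr (wa k.val s.val) j.val = cr r.val j.val := by
  decide +kernel

theorem neg_data : ∀ s : Fin 12, wa 7 s.val = 11 - s.val := by decide +kernel

theorem rot_data : ∀ k : Fin 2, ∀ r : Fin 2, ∃ s : Fin 12, ∀ j : Fin 2,
    cr s.val j.val - cr (wa (8 + k.val) s.val) j.val = cr ([6, 10].getD r.val 0) j.val := by
  decide +kernel

theorem six_data : cr (wa 10 7) 0 = 2 ∧ cr (wa 10 7) 1 = 1 ∧ cr (wa 10 6) 0 = -3 ∧
    cr (wa 10 6) 1 = -1 ∧ cr (wa 11 7) 0 = -1 ∧ cr (wa 11 7) 1 = -1 ∧ cr (wa 11 6) 0 = 3 ∧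
    cr (wa 11 6) 1 = 2 := by decide +kernel

theorem coords : cr 6 0 = 0 ∧ cr 6 1 = 1 ∧ cr 7 0 = 1 ∧ cr 7 1 = 0 ∧ cr 10 0 = 3 ∧ cr 10 1 = 1 ∧
    cr 11 0 = 3 ∧ cr 11 1 = 2 := by decide +kernel

theorem simples : chevG2.simple 0 = 7 ∧ chevG2.simple 1 = 6 ∧ chevG2.rank = 2 ∧
    chevG2.nroots = 12 ∧ DataG2.tab.rank = 2 := by decide +kernel

theorem neg_val : ∀ r : Fin 12, chevG2.neg r.val = 11 - r.val := by decide +kernel

variable {F : Type v} [Field F]

/-- The character in the coordinates of the roots. -/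
theorem chi_coords (c : ℕ → Fˣ) {r : ℕ} (hr : r < 12) :
    chi chevG2 c r = chi chevG2 c 7 ^ cr r 0 * chi chevG2 c 6 ^ cr r 1 := by
  obtain ⟨h0, h1, h2, h3, -⟩ := simples
  rw [chi_linear tabOK c (h3 ▸ hr), h2, Finset.prod_range_succ, Finset.prod_range_one, h0, h1]
  rfl

theorem chi_diff (c : ℕ → Fˣ) {s t r : ℕ} (hs : s < 12) (ht : t < 12) (hr : r < 12)
    (hst : chi chevG2 c t = chi chevG2 c s)
    (hd : ∀ j : Fin 2, cr s j.val - cr t j.val = cr r j.val) : chi chevG2 c r = 1 := by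
  have h0 : cr r 0 = cr s 0 - cr t 0 := (hd 0).symm
  have h1 : cr r 1 = cr s 1 - cr t 1 := (hd 1).symm
  rw [chi_coords c hr, h0, h1, zpow_sub, zpow_sub, mul_mul_mul_comm, ← mul_inv,
    ← chi_coords c hs, ← chi_coords c ht, hst, mul_inv_cancel]

variable {c : ℕ → Fˣ}

theorem stab_apply {k : ℕ} (hk : k < 12) (hs : wp k ∈ stabFin chevG2 c) {s : ℕ} (h : s < 12) :
    chi chevG2 c (wa k s) = chi chevG2 c s := by
  classical
  have e := (Finset.mem_filter.1 hs).2 ⟨s, simples.2.2.2.1.symm ▸ h⟩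
  rwa [wp_val hk] at e

theorem wa_lt {k : ℕ} (hk : k < 12) {s : ℕ} (h : s < 12) : wa k s < 12 := by
  have h1 := (wp k ⟨s, simples.2.2.2.1.symm ▸ h⟩).isLt
  rw [wp_val hk] at h1
  exact lt_of_lt_of_eq h1 simples.2.2.2.1

theorem stab_invol {k : ℕ} (hk : k < 8) (h0 : k ≠ 0) (hs : wp k ∈ stabFin chevG2 c) :
    ∃ r < 12, wa k r = 11 - r ∧ wa k (11 - r) = r ∧ chi chevG2 c r = 1 := by
  by_cases h7 : k = 7
  · subst h7
    obtain ⟨c60, c61, c70, c71, c100, c101, c110, c111⟩ := coords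
    have hsq : ∀ r < 12, chi chevG2 c r * chi chevG2 c r = 1 := by
      intro r hr
      have e := stab_apply (by norm_num) hs hr
      rw [neg_data ⟨r, hr⟩] at e
      simp only at e
      have hn : chi chevG2 c (11 - r) = (chi chevG2 c r)⁻¹ := by
        rw [← neg_val ⟨r, hr⟩]
        exact Additive.ofMul.injective
          ((DataG2.facts.isWeight_hT c).neg r (by rw [simples.2.2.2.1]; exact hr))
      rw [hn] at e
      exact mul_eq_one_iff_eq_inv.2 e.symm
    have hd : ∀ r < 12, wa 7 r = 11 - r ∧ wa 7 (11 - r) = r := fun r hr => by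
      have h1 := neg_data ⟨r, hr⟩
      have h2 := neg_data ⟨11 - r, by omega⟩
      simp only at h1 h2
      exact ⟨h1, h2.trans (by omega)⟩
    by_cases h6 : chi chevG2 c 6 = 1
    · exact ⟨6, by norm_num, (hd 6 (by norm_num)).1, (hd 6 (by norm_num)).2, h6⟩
    by_cases h10 : chi chevG2 c 10 = 1
    · exact ⟨10, by norm_num, (hd 10 (by norm_num)).1, (hd 10 (by norm_num)).2, h10⟩
    refine ⟨11, by norm_num, (hd 11 (by norm_num)).1, (hd 11 (by norm_num)).2, ?_⟩
    have hpm : ∀ r < 12, chi chevG2 c r ≠ 1 → chi chevG2 c r = -1 := fun r hr hne => by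
      have h3 : ((chi chevG2 c r : Fˣ) : F) * chi chevG2 c r = 1 := by
        rw [← Units.val_mul, hsq r hr, Units.val_one]
      rcases mul_self_eq_one_iff.1 h3 with h | h
      · exact absurd (Units.ext h) hne
      · exact Units.ext (by rw [h, Units.val_neg, Units.val_one])
    have e : chi chevG2 c 11 = chi chevG2 c 6 * chi chevG2 c 10 := by
      rw [chi_coords c (by norm_num : 11 < 12), chi_coords c (by norm_num : 6 < 12),
        chi_coords c (by norm_num : 10 < 12), c60, c61, c100, c101, c110, c111]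
      simp only [← zpow_natCast, zpow_zero, zpow_one, one_mul]
      rw [zpow_two]
      ac_rfl
    rw [e, hpm 6 (by norm_num) h6, hpm 10 (by norm_num) h10, neg_mul_neg, one_mul]
  · obtain ⟨r, s, h1, h2, hd⟩ := refl_data ⟨k, by omega⟩ h0
    refine ⟨r.val, r.isLt, h1, h2, chi_diff c s.isLt ?_ r.isLt (stab_apply (by omega) hs s.isLt) hd⟩
    exact wa_lt (by omega) s.isLt

theorem stab_rot {k : ℕ} (hk : k = 8 ∨ k = 9) (hs : wp k ∈ stabFin chevG2 c) :
    chi chevG2 c 6 = 1 ∧ chi chevG2 c 10 = 1 := by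
  have key : ∀ r : Fin 2, chi chevG2 c ([6, 10].getD r.val 0) = 1 := fun r => by
    obtain ⟨s, hd⟩ := rot_data ⟨k - 8, by omega⟩ r
    simp only [show 8 + (k - 8) = k by omega] at hd
    refine chi_diff c s.isLt ?_ ?_ (stab_apply (by omega) hs s.isLt) hd
    · exact wa_lt (by omega) s.isLt
    · fin_cases r <;> simp
  exact ⟨key 0, key 1⟩

theorem stab_six {k : ℕ} (hk : k = 10 ∨ k = 11) (hs : wp k ∈ stabFin chevG2 c) :
    chi chevG2 c 7 = 1 ∧ chi chevG2 c 6 = 1 := by
  obtain ⟨c1, c2, c3, c4, d1, d2, d3, d4⟩ := six_data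
  have h7 := stab_apply (by omega : k < 12) hs (by norm_num : 7 < 12)
  have h6 := stab_apply (by omega : k < 12) hs (by norm_num : 6 < 12)
  have hlt : ∀ s < 12, wa k s < 12 := fun s hs' => wa_lt (by omega) hs'
  rw [chi_coords c (hlt 7 (by norm_num))] at h7
  rw [chi_coords c (hlt 6 (by norm_num))] at h6
  set a := chi chevG2 c 7
  set b := chi chevG2 c 6
  rcases hk with rfl | rfl
  · rw [c1, c2, zpow_one, zpow_two, mul_assoc, mul_eq_left] at h7
    rw [c3, c4] at h6
    have hb : b = a⁻¹ := eq_inv_of_mul_eq_one_right h7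
    rw [hb, inv_zpow', _root_.neg_neg, ← zpow_add] at h6
    have ha : a = 1 := by
      have := h6
      rw [show (-3 : ℤ) + 1 = -2 by norm_num, zpow_neg, zpow_two, mul_inv, mul_eq_left,
        inv_eq_one] at this
      exact this
    exact ⟨ha, by rw [hb, ha, inv_one]⟩
  · rw [d1, d2] at h7
    rw [d3, d4, show (2 : ℤ) = 1 + 1 by norm_num, zpow_add, zpow_one, ← mul_assoc, mul_eq_right] at h6
    have hb : b = a ^ (-3 : ℤ) := by rw [zpow_neg]; exact eq_inv_of_mul_eq_one_right h6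
    rw [hb, ← zpow_mul, ← zpow_add, show (-1 : ℤ) + -3 * -1 = 1 + 1 by norm_num, zpow_add, zpow_one,
      mul_eq_left] at h7
    exact ⟨h7, by rw [hb, h7, one_zpow]⟩

end CfsgLib.Chev.G2Orders

namespace CfsgLib.Chev.G2Orders

open Cfsg.Lie CfsgLib.Chev.Table CfsgLib.Chev.OddInvol

universe w

theorem cr_inj : ∀ r s : Fin 12, (∀ j : Fin 2, cr r.val j.val = cr s.val j.val) → r = s := by
  decide +kernel

theorem invol_next : ∀ k : Fin 7, ∀ r : Fin 12, k.val ≠ 0 → wa k.val r.val = 11 - r.val →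
    ∀ x : Fin 12, ∀ j : Fin 2,
      cr (wa k.val x.val) j.val - DataG2.tab.pr r.val (wa k.val x.val) * cr r.val j.val =
        cr x.val j.val := by
  decide +kernel

theorem fix_small : ∀ k r : Fin 12, wa k.val r.val = r.val → k.val < 7 := by decide +kernel

theorem refl_words : ∀ x : Fin 12, ∀ j : Fin 2,
    cr (wa 2 x.val) j.val = cr x.val j.val - DataG2.tab.pr 6 x.val * cr 6 j.val ∧
    cr (wa 3 x.val) j.val = cr x.val j.val - DataG2.tab.pr 10 x.val * cr 10 j.val := by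
  decide +kernel

theorem rot_words : (∀ x : Fin 12, wa 2 (wa 3 x.val) = wa 9 x.val) ∧
    (∀ x : Fin 12, wa 8 (wa 9 x.val) = x.val) ∧ (∀ x : Fin 12, wa 0 x.val = x.val) ∧
    ∀ x : Fin 12, wa 11 (wa 10 x.val) = x.val := by
  decide +kernel

theorem six_order : ∀ k : Fin 2,
    wa (10 + k.val) (wa (10 + k.val) 7) ≠ 7 ∧
    wa (10 + k.val) (wa (10 + k.val) (wa (10 + k.val) 7)) ≠ 7 ∧
    ∀ x : Fin 12, wa (10 + k.val) (wa (10 + k.val) (wa (10 + k.val)
      (wa (10 + k.val) (wa (10 + k.val) (wa (10 + k.val) x.val))))) = x.val := by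
  decide +kernel

theorem rot_order : ∀ k : Fin 2, ∀ x : Fin 12,
    wa (8 + k.val) (wa (8 + k.val) (wa (8 + k.val) x.val)) = x.val := by
  decide +kernel

theorem perm_ext {σ τ : Equiv.Perm (Fin chevG2.nroots)}
    (h : ∀ (x : Fin chevG2.nroots) (j : Fin 2), cr (σ x).val j.val = cr (τ x).val j.val) : σ = τ := by
  refine Equiv.ext fun x => Fin.ext ?_
  have h12 : ∀ y : Fin chevG2.nroots, y.val < 12 := fun y => lt_of_lt_of_eq y.isLt simples.2.2.2.1
  exact congrArg Fin.val (cr_inj ⟨(σ x).val, h12 _⟩ ⟨(τ x).val, h12 _⟩ fun j => h x j)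

/-- The permutation of a reflection. -/
theorem refl_eq_wp {F : Type w} [Field F] {r : ℕ} (hr : r < chevG2.nroots)
    {s : Equiv.Perm (Fin chevG2.nroots)} (hs : PermAct (nU chevG2 r (1 : F)) s)
    (x : Fin chevG2.nroots) (j : Fin 2) :
    cr (s x).val j.val = cr x.val j.val - DataG2.tab.pr r x.val * cr r j.val := by
  obtain ⟨σ, hσ, hco⟩ := tabOK.facts.exists_reflection (F := F) hr
  rw [tabOK.facts.permAct_unique hs (hσ 1 one_ne_zero), ← prE_eq tabOK hr x.isLt]
  exact hco x j.val (by rw [simples.2.2.1]; exact j.isLt)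

end CfsgLib.Chev.G2Orders
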