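import Mathlib

/-!
# Extensions of finite fields with many roots of unity and square roots
-/

set_option autoImplicit false

namespace CfsgLib.Chev.G2Orders

universe u

/-- An extension in which every element is a square and with many roots of unity. -/
theorem exists_ext {K : Type u} [Field K] [Finite K] {r : ℕ} (hr : r.Prime) (hrK : (r : K) ≠ 0) :
    ∃ (L : Type) (_ : Field L) (_ : Finite L) (ι : K →+* L),
      r ^ 4 ∣ Nat.card L - 1 ∧ ∀ a : K, ∃ v : L, v * v = ι a := by
  classical
  haveI := Fintype.ofFinite K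
  obtain ⟨p, hp⟩ := CharP.exists K
  haveI : Fact p.Prime := ⟨CharP.char_is_prime K p⟩
  obtain ⟨n, -, hn⟩ := FiniteField.card K p
  set q := Nat.card K with hq
  have hqn : q = p ^ (n : ℕ) := by rw [hq, Nat.card_eq_fintype_card, hn]
  have hrp : ¬ r ∣ p := fun h => hrK (by
    rw [(Nat.prime_dvd_prime_iff_eq hr Fact.out).1 h]; exact CharP.cast_eq_zero K p)
  have hcop : Nat.Coprime q (r ^ 4) := by
    rw [hqn]
    exact Nat.Coprime.pow _ _ ((hr.coprime_iff_not_dvd.2 hrp).symm)
  set e := Nat.totient (r ^ 4)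
  have he : 0 < e := Nat.totient_pos.2 (pow_pos hr.pos _)
  set d := 2 * e
  haveI : NeZero d := ⟨by omega⟩
  let L := FiniteField.Extension K p d
  have hQ : Nat.card L = q ^ d := FiniteField.natCard_extension K p d
  let ι : K →+* L := algebraMap K L
  haveI : Fintype L := Fintype.ofFinite L
  refine ⟨L, inferInstance, inferInstance, ι, ?_, fun a => ?_⟩
  · rw [hQ]
    have h1 : q ^ d ≡ 1 [MOD r ^ 4] := by
      rw [show d = e * 2 by omega, pow_mul]
      simpa using (Nat.ModEq.pow_totient hcop).pow 2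
    exact (Nat.modEq_iff_dvd' (Nat.one_le_pow _ _ Nat.card_pos)).1 h1.symm
  · by_cases ha : a = 0
    · exact ⟨0, by simp [ha]⟩
    suffices h : IsSquare (ι a) by
      obtain ⟨v, hv⟩ := h
      exact ⟨v, hv.symm⟩
    by_cases h2 : ringChar L = 2
    · exact FiniteField.isSquare_of_char_two h2 _
    rw [FiniteField.isSquare_iff h2 (by simpa using ha), ← Nat.card_eq_fintype_card, hQ]
    have hodd : Odd (q ^ d) := by
      rw [← hQ, Nat.card_eq_fintype_card]
      exact Nat.odd_iff.2 (FiniteField.odd_card_of_char_ne_two h2)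
    have hqodd : Odd q := (Nat.odd_pow_iff (NeZero.ne d)).1 hodd
    have hdvd : q - 1 ∣ q ^ d / 2 := by
      obtain ⟨k, hk⟩ := (hqodd.pow : Odd (q ^ e))
      have h4 : q - 1 ∣ q ^ e - 1 := by simpa using Nat.sub_dvd_pow_sub_pow q 1 e
      refine h4.trans ⟨k + 1, ?_⟩
      rw [show d = e * 2 by omega, pow_mul, hk, Nat.add_sub_cancel, sq,
        show (2 * k + 1) * (2 * k + 1) = 2 * (2 * k * (k + 1)) + 1 by ring]
      omega
    obtain ⟨k, hk⟩ := hdvd
    rw [hk, pow_mul, ← map_pow, hq, Nat.card_eq_fintype_card,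
      FiniteField.pow_card_sub_one_eq_one a ha, map_one, one_pow]

end CfsgLib.Chev.G2Orders
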