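import Cfsg.Agent.Lib.Known.G2Orders.Drop
import Cfsg.Agent.Lib.Known.G2Orders.Base
import Cfsg.Agent.Lib.Known.G2Orders.Ext
import Cfsg.Agent.Lib.Known.G2Singer.Main
import Cfsg.Agent.Lib.Known.ChevSinger.Bruhat
import Cfsg.Agent.Lib.Known.ChevSinger.Adjoint.Steinberg

/-!
# Semisimple elements of `G2` are diagonalisable over an extension
-/

set_option autoImplicit false
set_option maxRecDepth 8000

namespace CfsgLib.Chev.G2Orders

open Cfsg.Lie CfsgLib.Chev.Table CfsgLib.Chev.OddInvol CfsgLib.Known.ChevSinger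

universe u

local notation "hF" => (tabOK.facts)

/-- Diagonalisable over an extension by an element centralising `hT c`. -/
def Good (K : Type) [Field K] (c : ℕ → Kˣ) (g : GL chevG2.Idx K) : Prop :=
  ∃ (L : Type) (_ : Field L) (_ : Finite L) (ι : K →+* L), ∃ z ∈ chevG2.group L,
    Commute z (extG chevG2 ι (hT chevG2 c)) ∧
      z * extG chevG2 ι g * z⁻¹ ∈ chevG2.diagonalSubgroup L

variable {K : Type} [Field K]

theorem Good.of_diag [Finite K] {c : ℕ → Kˣ} {g : GL chevG2.Idx K} {z : GL chevG2.Idx K}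
    (hz : z ∈ chevG2.group K) (hzc : Commute z (hT chevG2 c))
    (h : z * g * z⁻¹ ∈ chevG2.diagonalSubgroup K) : Good K c g := by
  have e : ∀ x : GL chevG2.Idx K, extG chevG2 (RingHom.id K) x = x := fun x =>
    Units.ext (Matrix.ext fun a b => rfl)
  exact ⟨K, inferInstance, inferInstance, RingHom.id K, z, hz, by rwa [e], by rwa [e]⟩

/-- Good after an extension and a conjugation. -/
theorem Good.step {L : Type} [Field L] (ι : K →+* L) {c : ℕ → Kˣ} {g : GL chevG2.Idx K}
    {g' z : GL chevG2.Idx L} (hz : z ∈ chevG2.group L)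
    (hzc : Commute z (extG chevG2 ι (hT chevG2 c))) (e : z * extG chevG2 ι g * z⁻¹ = g')
    (h : Good L (fun i => Units.map ι.toMonoidHom (c i)) g') : Good K c g := by
  obtain ⟨M, i1, i2, η, y, hy, hyc, hyd⟩ := h
  refine ⟨M, i1, i2, η.comp ι, y * extG chevG2 η z,
    Subgroup.mul_mem _ hy (extG_mem_group η hF hz), ?_, ?_⟩
  · rw [← extG_comp]
    rw [← extG_hT ι c] at hyc
    exact hyc.mul_left (hzc.map _)
  · rw [← e, map_mul, map_mul, map_inv] at hyd
    rw [← extG_comp, mul_inv_rev]
    convert hyd using 1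
    group

theorem pair_commute (c : ℕ → Kˣ) {r : ℕ} (hr : r < chevG2.nroots) (h : chi chevG2 c r = 1)
    {z : GL chevG2.Idx K}
    (hz : z ∈ rootClosure chevG2 K (fun x => x = r ∨ x = chevG2.neg r)) :
    z ∈ chevG2.group K ∧ Commute z (hT chevG2 c) := by
  have hn : chi chevG2 c (chevG2.neg r) = 1 := by
    have e := ((hF).isWeight_hT c).neg r hr
    exact (Additive.ofMul.injective e).trans (by
      show (chi chevG2 c r)⁻¹ = 1
      rw [h, inv_one])
  have hle := fixed_closure hF c (P := fun x => x = r ∨ x = chevG2.neg r)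
  have h2 := hle (rootClosure_mono (fun x _ hx => ⟨hx, by rcases hx with rfl | rfl <;> assumption⟩) hz)
  refine ⟨?_, Subgroup.mem_centralizer_singleton_iff.1 h2.2⟩
  rw [(hF).group_eq]
  exact rootClosure_mono (fun _ _ _ => trivial) hz

theorem mem_stab {c : ℕ → Kˣ} {m : GL chevG2.Idx K} {σ : Equiv.Perm (Fin chevG2.nroots)}
    (hm : m ∈ chevG2.monomialSubgroup K) (hσ : PermAct m σ) (hc : Commute m (hT chevG2 c)) :
    σ ∈ stabFin chevG2 c := by
  classical
  obtain ⟨l, k, hk, e⟩ := (hF).exists_nW hm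
  have h := (hF).permAct_mul ((hF).permAct_nW (F := K) l) ((hF).permAct_diagonal hk)
  rw [mul_one, ← e] at h
  exact Finset.mem_filter.2 ⟨mem_wFin_rank.2 ⟨l, (hF).permAct_unique hσ h⟩,
    fun r => stab_of_commute hF c hσ hc r⟩

theorem ext_monomial {L : Type} [Field L] (ι : K →+* L) {m : GL chevG2.Idx K}
    {σ : Equiv.Perm (Fin chevG2.nroots)} (hm : m ∈ chevG2.monomialSubgroup K) (hσ : PermAct m σ) :
    extG chevG2 ι m ∈ chevG2.monomialSubgroup L ∧ PermAct (extG chevG2 ι m) σ := by
  obtain ⟨l, k, hk, rfl⟩ := (hF).exists_nW hm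
  obtain ⟨d, rfl⟩ := (hF).mem_diagonal_iff.1 hk
  have h := (hF).permAct_mul ((hF).permAct_nW (F := K) l) ((hF).permAct_diagonal hk)
  rw [mul_one] at h
  obtain rfl := (hF).permAct_unique hσ h
  rw [map_mul, extG_nW hF, extG_hT]
  have hd : hT chevG2 (fun i => Units.map ι.toMonoidHom (d i)) ∈ chevG2.diagonalSubgroup L :=
    (hF).mem_diagonal_iff.2 ⟨_, rfl⟩
  refine ⟨Subgroup.mul_mem _ ((hF).nW_mem l) (Subgroup.mem_sup_left hd), ?_⟩
  simpa using (hF).permAct_mul ((hF).permAct_nW (F := L) l) ((hF).permAct_diagonal hd)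

theorem good_invol : ∀ (k : ℕ), k < 8 → ∀ (K : Type) [Field K] [Finite K] (c : ℕ → Kˣ)
    (m : GL chevG2.Idx K) (N : ℕ), m ∈ chevG2.monomialSubgroup K → PermAct m (wp k) →
    Commute m (hT chevG2 c) → m ^ N = 1 → (N : K) ≠ 0 → Good K c m := by
  classical
  intro k
  induction k using Nat.strong_induction_on with
  | _ k ih =>
    intro hk K _ _ c m N hm hσ hcm hN hN0
    by_cases h0 : k = 0
    · subst h0
      have e : wp 0 = (1 : Equiv.Perm (Fin chevG2.nroots)) := by simp [wp, words, toW, sW_nil]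
      exact Good.of_diag (Subgroup.one_mem _) (Commute.one_left _)
        (by rw [one_mul, inv_one, mul_one]; exact (hF).mem_diagonal_of_permAct hm (e ▸ hσ))
    have hs := mem_stab hm hσ hcm
    obtain ⟨r, hr, h1, h1', hchi⟩ := stab_invol hk h0 hs
    have hrn : r < chevG2.nroots := simples.2.2.2.1.symm ▸ hr
    set R : Fin chevG2.nroots := ⟨r, hrn⟩
    have hnr : ((hF).negFin R).val = 11 - r := neg_val ⟨r, hr⟩
    have e1 : wp k R = (hF).negFin R := Fin.ext (by rw [wp_val (by omega), hnr]; exact h1)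
    have e2 : wp k ((hF).negFin R) = R := Fin.ext (by rw [wp_val (by omega), hnr]; exact h1')
    obtain ⟨d, hd0, hd, -⟩ := hσ R
    rw [e1] at hd
    obtain ⟨p, hp⟩ := CharP.exists K
    obtain ⟨rp, hrp, hrK⟩ : ∃ rp : ℕ, rp.Prime ∧ (rp : K) ≠ 0 := by
      by_cases h2 : (2 : K) = 0
      · refine ⟨3, by norm_num, fun h3 => one_ne_zero (α := K) ?_⟩
        push_cast at h3
        linear_combination h3 - h2
      · exact ⟨2, by norm_num, by exact_mod_cast h2⟩
    obtain ⟨L, iL, iLF, ι, -, hsq⟩ := exists_ext (K := K) hrp hrK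
    obtain ⟨v, hv⟩ := hsq d⁻¹
    obtain ⟨hmL, hσL⟩ := ext_monomial ι hm hσ
    have hdL : ∀ t : L, extG chevG2 ι m * xU chevG2 r t * (extG chevG2 ι m)⁻¹ =
        xU chevG2 (chevG2.neg r) (ι d * t) := by
      obtain ⟨d', -, hd', -⟩ := hσL R
      rw [e1] at hd'
      have := congrArg (extG chevG2 ι) (hd 1)
      rw [map_mul, map_mul, map_inv, extG_xU ι hF hrn, extG_xU ι hF ((hF).negFin R).isLt, map_one,
        hd', mul_one, mul_one] at this
      have e := (hF).xU_left_inj ((hF).negFin R).isLt this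
      exact fun t => e ▸ hd' t
    obtain ⟨s, m', hsact, hm', hσ', hN', z, hz, hzm⟩ := drop hF (r := R) hmL hσL e1 e2 hdL
      (v := v) (by rw [hv, ← map_mul, mul_inv_cancel₀ hd0, map_one]) (N := N)
      (by rw [← map_natCast ι]; exact (map_ne_zero ι).2 hN0) (by rw [← map_pow, hN, map_one])
    set c' : ℕ → Lˣ := fun i => Units.map ι.toMonoidHom (c i)
    have hhT : extG chevG2 ι (hT chevG2 c) = hT chevG2 c' := extG_hT ι c
    have hchi' : chi chevG2 c' r = 1 := by
      show ∏ i ∈ Finset.range chevG2.rank, (Units.map ι.toMonoidHom (c i)) ^ chevG2.cartan i r = 1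
      rw [show (1 : Lˣ) = Units.map ι.toMonoidHom (chi chevG2 c r) by rw [hchi, map_one], chi,
        map_prod]
      exact Finset.prod_congr rfl fun i _ => (map_zpow _ _ _).symm
    obtain ⟨hzG, hzc⟩ := pair_commute c' hrn hchi' hz
    have hcm' : Commute m' (hT chevG2 c') := by
      rw [← hzm, ← hhT]
      have hc0 := hcm.map (extG chevG2 ι)
      rw [hhT] at hc0 ⊢
      exact (hzc.mul_left hc0).mul_left hzc.inv_left
    obtain ⟨j, hj, hje⟩ := mem_wFin_iff.1 (Finset.filter_subset _ _ (mem_stab hm' hσ' hcm'))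
    have hfix : wa j (11 - r) = 11 - r := by
      have hsr : s R = (hF).negFin R := by
        obtain ⟨e, he, hh, -⟩ := hsact R
        have h2 := (hF).nU_conj_self (F := L) hrn 1
        rw [hh] at h2
        exact Fin.ext ((hF).xU_root_unique (c := e * 1) (d := (-1 : L)) (s R).isLt ((hF).negFin R).isLt
          (by simpa using he) h2)
      have h2 : (s * wp k) ((hF).negFin R) = (hF).negFin R := by rw [Equiv.Perm.mul_apply, e2, hsr]
      rw [hje] at h2
      have := congrArg Fin.val h2
      rwa [wp_val hj, hnr] at this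
    have hlt : j < k := by
      have h7 := fix_small ⟨j, hj⟩ ⟨11 - r, by omega⟩ hfix
      simp only at h7
      rcases Nat.lt_or_ge k 7 with hk7 | hk7
      · have e : s * wp k = wp 0 := by
          refine perm_ext fun x i => ?_
          rw [Equiv.Perm.mul_apply, refl_eq_wp hrn hsact, wp_val (by omega : k < 12),
            wp_val (by norm_num : 0 < 12), rot_words.2.2.1 ⟨x.val, lt_of_lt_of_eq x.isLt simples.2.2.2.1⟩]
          exact invol_next ⟨k, hk7⟩ ⟨r, hr⟩ h0 h1 ⟨x.val, lt_of_lt_of_eq x.isLt simples.2.2.2.1⟩ i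
        rw [e] at hje
        have h3 : j = 0 := congrArg Fin.val (words_inj ⟨j, hj⟩ ⟨0, by norm_num⟩ (by
          have hn := simples.2.2.2.1
          constructor
          · have := congrArg (fun σ => (σ ⟨7, by omega⟩ : Fin chevG2.nroots).val) hje
            simp only [wp_val hj, wp_val (by norm_num : 0 < 12)] at this
            exact this.symm
          · have := congrArg (fun σ => (σ ⟨6, by omega⟩ : Fin chevG2.nroots).val) hje
            simp only [wp_val hj, wp_val (by norm_num : 0 < 12)] at this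
            exact this.symm))
        omega
      · omega
    exact Good.step ι hzG (by rw [hhT]; exact hzc) hzm
      (ih j hlt (by omega) L c' m' N hm' (hje ▸ hσ') hcm' hN'
        (by rw [← map_natCast ι]; exact (map_ne_zero ι).2 hN0))

end CfsgLib.Chev.G2Orders
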