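import Cfsg.Agent.Lib.Known.OddInvol.Moves

/-!
# Dropping a reflection from a monomial element of order prime to the characteristic

A monomial element inverting a root loses the reflection of the root by a conjugation inside the
rank one subgroup of the root, once the parameter at the root is a square.
-/

set_option autoImplicit false

namespace CfsgLib.Chev.G2Orders

open Cfsg.Lie

universe v

variable {D : ChevalleyDatum} {co : ℕ → ℕ → ℤ} {F : Type v} [Field F] (hF : Facts D co)
include hF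

theorem eq_zero_of_monomial : ∀ {r : ℕ}, r < D.nroots → ∀ t : F,
    xU D r t ∈ D.monomialSubgroup F → t = 0 := by
  intro r hr
  refine hF.root_induction (P := fun r => ∀ t : F, xU D r t ∈ D.monomialSubgroup F → t = 0)
    (fun i hi t ht => ?_) (fun i hi s hs ih t ht => ?_) hr
  · have hpos : D.nroots / 2 ≤ D.simple i := by
      have := (hF.simple_lt i hi).1
      omega
    exact hF.xU_eq_one (hF.simple_lt' hi)
      (OddInvol.eq_one_of_pos_monomial hF (xU_mem_rootClosure (hF.simple_lt' hi)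
        (P := (D.nroots / 2 ≤ ·)) hpos t) ht)
  · obtain ⟨η, h1, h2, h3⟩ := hF.exists_eta (F := F) hi
    have hn : nU D (D.simple i) (1 : F) ∈ D.monomialSubgroup F := hF.nU_mem_monomial (hF.simple_lt' hi)
    have hη : (η s : F) * ((η s : F) * t) = t := by rcases h1 s hs with h | h <;> simp [h]
    have e : xU D s ((η s : F) * t) = (nU D (D.simple i) 1)⁻¹ * xU D (D.reflectRoot i s) t *
        nU D (D.simple i) 1 := by
      rw [eq_comm, mul_assoc, inv_mul_eq_iff_eq_mul, h3 s hs, hη]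
    have h0 := ih _ (e ▸ Subgroup.mul_mem _ (Subgroup.mul_mem _ (Subgroup.inv_mem _ hn) ht) hn)
    rcases mul_eq_zero.1 h0 with h | h
    · rcases h1 s hs with h' | h' <;> simp [h'] at h
    · exact h

theorem nU_monomial {r : ℕ} (hr : r < D.nroots) {v : F} (hv : v ≠ 0) :
    nU D r v ∈ D.monomialSubgroup F := by
  have e : nU D r v = hU D r v * nU D r 1 := by
    rw [hU, ← hF.nU_inv hr, inv_mul_cancel_right]
  rw [e]
  exact Subgroup.mul_mem _ (Subgroup.mem_sup_left (hF.hU_mem_diagonal hr hv))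
    (hF.nU_mem_monomial hr)

omit hF in
theorem mem_pair {r : ℕ} {s : ℕ} (hs : s < D.nroots) (h : s = r ∨ s = D.neg r) (t : F) :
    xU D s t ∈ rootClosure D F (fun x => x = r ∨ x = D.neg r) :=
  xU_mem_rootClosure hs (P := fun x => x = r ∨ x = D.neg r) h t

/-- A factor in a root subgroup which a monomial element normalises disappears under conjugation. -/
theorem absorb_root {q : ℕ} (hq : q < D.nroots) {m : GL D.Idx F} (hm : m ∈ D.monomialSubgroup F)
    {e b : F} (he : e ≠ 0) (hact : ∀ t, m * xU D q t * m⁻¹ = xU D q (e * t))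
    {N : ℕ} (hN : (N : F) ≠ 0) (hy : (m * xU D q b) ^ N = 1) :
    ∃ c : F, xU D q c * (m * xU D q b) * (xU D q c)⁻¹ = m := by
  by_cases h1 : e = 1
  · subst h1
    refine ⟨0, ?_⟩
    have hc : Commute m (xU D q b) := by
      have := hact b
      rw [one_mul, mul_inv_eq_iff_eq_mul] at this
      exact this
    rw [hc.mul_pow] at hy
    have hp : ∀ n : ℕ, xU D q b ^ n = xU D q (n * b) := by
      intro n
      induction n with
      | zero => rw [pow_zero, Nat.cast_zero, zero_mul, hF.xU_zero hq]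
      | succ n ih => rw [pow_succ, ih, hF.xU_add hq, Nat.cast_succ, add_mul, one_mul]
    rw [hp] at hy
    have hb : (N : F) * b = 0 := eq_zero_of_monomial hF hq _
      (eq_inv_of_mul_eq_one_right hy ▸ Subgroup.inv_mem _ (Subgroup.pow_mem _ hm N))
    rw [(mul_eq_zero.1 hb).resolve_left hN, hF.xU_zero hq, one_mul, mul_one, inv_one, mul_one]
  · have hne : e⁻¹ - 1 ≠ 0 := fun h => h1 (inv_eq_one.1 (sub_eq_zero.1 h))
    refine ⟨-b / (e⁻¹ - 1), ?_⟩
    set c := -b / (e⁻¹ - 1)
    have h2 : xU D q c * m = m * xU D q (e⁻¹ * c) := by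
      rw [mul_inv_eq_iff_eq_mul.1 (hact (e⁻¹ * c)), ← mul_assoc, mul_inv_cancel₀ he, one_mul]
    rw [← mul_assoc, h2, hF.xU_inv hq, mul_assoc, mul_assoc, hF.xU_add hq, hF.xU_add hq,
      show e⁻¹ * c + (b + -c) = 0 by
        rw [show e⁻¹ * c + (b + -c) = c * (e⁻¹ - 1) + b by ring, div_mul_cancel₀ _ hne,
          neg_add_cancel],
      hF.xU_zero hq, mul_one]

/-- Dropping the reflection of an inverted root. -/
theorem drop {r : Fin D.nroots} {m : GL D.Idx F} {σ : Equiv.Perm (Fin D.nroots)}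
    (hm : m ∈ D.monomialSubgroup F) (hσ : PermAct m σ)
    (hr : σ r = hF.negFin r) (hr' : σ (hF.negFin r) = r) {d v : F}
    (hd : ∀ t, m * xU D r.val t * m⁻¹ = xU D (D.neg r.val) (d * t)) (hv : d * (v * v) = 1)
    {N : ℕ} (hN : (N : F) ≠ 0) (hmN : m ^ N = 1) :
    ∃ (s : Equiv.Perm (Fin D.nroots)) (m' : GL D.Idx F), PermAct (nU D r.val (1 : F)) s ∧
      m' ∈ D.monomialSubgroup F ∧ PermAct m' (s * σ) ∧ m' ^ N = 1 ∧
      ∃ z ∈ rootClosure D F (fun x => x = r.val ∨ x = D.neg r.val), z * m * z⁻¹ = m' := by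
  obtain ⟨s, hs, -⟩ := hF.exists_reflection (F := F) r.isLt
  set q := hF.negFin r
  have hqv : q.val = D.neg r.val := rfl
  have hsr : s r = q := by
    obtain ⟨e, he, h1, -⟩ := hs 1 one_ne_zero r
    have h2 := hF.nU_conj_self (F := F) r.isLt 1
    rw [h1] at h2
    exact Fin.ext (hF.xU_root_unique (c := e * 1) (d := (-1 : F)) (s r).isLt q.isLt
      (by simpa using he) h2)
  obtain ⟨d', hd'0, hd', -⟩ := hσ q
  rw [hr'] at hd'
  have hv0 : v ≠ 0 := fun h => by simp [h] at hv
  have hd0 : d ≠ 0 := fun h => by simp [h] at hv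
  have hnv : -v ≠ 0 := neg_ne_zero.2 hv0
  set m' := nU D r.val (-v) * m
  have hm' : m' ∈ D.monomialSubgroup F := Subgroup.mul_mem _ (nU_monomial hF r.isLt hnv) hm
  have hσ' : PermAct m' (s * σ) := hF.permAct_mul (hs _ hnv) hσ
  have hfix : (s * σ) q = q := by rw [Equiv.Perm.mul_apply, hr', hsr]
  obtain ⟨e, he, hact, -⟩ := hσ' q
  rw [hfix] at hact
  set b := d'⁻¹ * v
  have hy : (xU D r.val v)⁻¹ * m * xU D r.val v = m' * xU D q.val b := by
    have h1 : m * xU D r.val v = xU D q.val (d * v) * m := by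
      rw [← mul_inv_eq_iff_eq_mul, hd]; rfl
    have h2 : xU D r.val (-v) * xU D q.val (d * v) = nU D r.val (-v) * xU D r.val v := by
      rw [nU, mul_assoc (_ * _) (xU D r.val (-v)), hF.xU_add r.isLt, neg_add_cancel,
        hF.xU_zero r.isLt, mul_one]
      congr 2
      field_simp
      linear_combination hv
    have h3 : xU D r.val v * m = m * xU D q.val b := by
      rw [mul_inv_eq_iff_eq_mul.1 (hd' b), ← mul_assoc, mul_inv_cancel₀ hd'0, one_mul]
    simp only [m']
    rw [hF.xU_inv r.isLt, mul_assoc, h1, ← mul_assoc, h2, mul_assoc, h3, mul_assoc]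
  have hyN : (m' * xU D q.val b) ^ N = 1 := by
    rw [← hy]
    nth_rewrite 2 [← inv_inv (xU D r.val v)]
    rw [conj_pow, hmN, mul_one, mul_inv_cancel]
  obtain ⟨c, hc⟩ := absorb_root hF q.isLt hm' he hact hN hyN
  refine ⟨s, m', hs 1 one_ne_zero, hm', hσ', ?_, xU D q.val c * (xU D r.val v)⁻¹,
    Subgroup.mul_mem _ (mem_pair q.isLt (Or.inr rfl) c)
      (Subgroup.inv_mem _ (mem_pair r.isLt (Or.inl rfl) v)), ?_⟩
  · rw [← hc, conj_pow, hyN, mul_one, mul_inv_cancel]
  · rw [mul_inv_rev, inv_inv]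
    calc xU D q.val c * (xU D r.val v)⁻¹ * m * (xU D r.val v * (xU D q.val c)⁻¹)
        = xU D q.val c * ((xU D r.val v)⁻¹ * m * xU D r.val v) * (xU D q.val c)⁻¹ := by group
      _ = m' := by rw [hy, hc]

end CfsgLib.Chev.G2Orders
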