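import Cfsg.Agent.Lib.Known.ChevSinger.Torus
import Cfsg.Agent.Lib.Chev.Orders
import Cfsg.Agent.Lib.Chev.All

/-!
# A cyclic torus of order `q ^ 2 - q + 1` of `G2(q)`
-/

set_option autoImplicit false
set_option maxRecDepth 20000

namespace CfsgLib.Known.ChevSinger.G2

open Cfsg.Lie CfsgLib.Chev Polynomial Matrix

universe u

/-- The scalar product. -/
def form : Matrix (Fin 2) (Fin 2) ℤ := !![2, -3; -3, 6]
/-- The adjugate of the scalar product. -/
def formAdj : Matrix (Fin 2) (Fin 2) ℤ := !![6, 3; 3, 2]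
/-- The inverse of the Cartan matrix. -/
def cartanInv : Matrix (Fin 2) (Fin 2) ℤ := !![2, 1; 3, 2]

theorem form_symm : formᵀ = form := by decide

theorem formAdj_nonneg (w : Fin 2 → ℤ) : 0 ≤ w ⬝ᵥ formAdj *ᵥ w := by
  simp only [formAdj, dotProduct, Matrix.mulVec, Fin.sum_univ_two, Matrix.of_apply, Matrix.cons_val]
  nlinarith [sq_nonneg (3 * w 1 + 2 * w 0), sq_nonneg (2 * w 1 + 3 * w 0), sq_nonneg (w 0), sq_nonneg (w 1)]

/-- The coefficient vector of a root. -/
def cv (s : Fin chevG2.nroots) : Fin 2 → ℤ := coV chevG2 DataG2.co s.val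

/-- A fundamental reflection. -/
def refl2 (i : Fin 2) : Matrix (Fin 2) (Fin 2) ℤ := reflM chevG2 i

theorem refl2_form : ∀ i : Fin 2, (refl2 i)ᵀ * form * refl2 i = form := by decide +kernel

theorem root_norm : ∀ s : Fin chevG2.nroots,
    cv s ⬝ᵥ form *ᵥ cv s = 2 ∨ cv s ⬝ᵥ form *ᵥ cv s = 6 := by decide +kernel

theorem short_mem : ∃ s : Fin chevG2.nroots, cv s ⬝ᵥ form *ᵥ cv s = 2 := by decide +kernel

theorem alcove : AlcoveData chevG2 DataG2.co form formAdj 3 11 where
  symm := (by decide : formAdjᵀ = formAdj)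
  nonneg := formAdj_nonneg
  pos_norm := fun s => show (0 : ℤ) < cv s ⬝ᵥ form *ᵥ cv s by
    rcases root_norm s with h | h <;> rw [h] <;> norm_num
  coroot := by decide +kernel
  prE_self := by decide +kernel
  cc_pos := by norm_num
  theta_lt := by decide +kernel
  theta_co := by decide +kernel

theorem det_gram_two {A : Matrix (Fin 2) (Fin 2) ℤ} (hA : Aᵀ * form * A = form)
    (hΦ : aeval A (cyclotomic 6 ℤ) = 0) (v : Fin 2 → ℤ) :
    (orbitMat A v).det ^ 2 * 4 = (v ⬝ᵥ form *ᵥ v) ^ 2 := by
  have h0 : gseq form A v 0 = v ⬝ᵥ form *ᵥ v := by simp [gseq]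
  rw [cyclotomic_six] at hΦ
  have hdeg : ((X : ℤ[X]) ^ 2 - X + 1).natDegree ≤ 2 := by compute_degree
  have h1 := gseq_recurrence form_symm hA v hdeg hΦ 1
  simp [Finset.sum_range_succ, coeff_X, coeff_X_pow, coeff_one] at h1
  have h := det_gram form_symm hA v
  rw [show form.det = 3 by decide +kernel] at h
  simp [Matrix.det_fin_two, gramOf] at h
  have e : 2 * gseq form A v 1 = gseq form A v 0 := by linarith
  rw [h0] at e h
  rw [Matrix.det_fin_two]
  refine mul_left_cancel₀ (show (3 : ℤ) ≠ 0 by norm_num) ?_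
  linear_combination 4 * h - (2 * gseq form A v 1 + v ⬝ᵥ form *ᵥ v) * e

theorem good (A : Matrix (Fin 2) (Fin 2) ℤ) (hA : Aᵀ * form * A = form)
    (hΦ : aeval A (cyclotomic 6 ℤ) = 0) :
    (∀ s : Fin chevG2.nroots, ∀ r : ℕ, r.Prime → 6 ∣ r - 1 →
      ¬ (r : ℤ) ∣ (orbitMat A (cv s)).det) ∧
    ∃ s : Fin chevG2.nroots, IsUnit (orbitMat A (cv s)).det := by
  refine ⟨fun s r hr hdr hdvd => ?_, ?_⟩
  · have h7 : (7 : ℤ) ≤ r := by
      have := hr.two_le
      omega
    have hg := det_gram_two hA hΦ (cv s)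
    set x := (orbitMat A (cv s)).det
    have hx : x ≠ 0 := fun h0 => by
      rcases root_norm s with h | h <;> rw [h, h0] at hg <;> norm_num at hg
    have hle := Int.le_of_dvd (abs_pos.2 hx) ((dvd_abs _ _).2 hdvd)
    have h49 : 49 ≤ x ^ 2 := by nlinarith [sq_abs x]
    rcases root_norm s with h | h <;> rw [h] at hg <;> nlinarith
  · obtain ⟨s, hs⟩ := short_mem
    refine ⟨s, ?_⟩
    have hg := det_gram_two hA hΦ (cv s)
    rw [hs] at hg
    rw [Int.isUnit_iff, ← sq_eq_one_iff]
    linarith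

theorem data : SingerData chevG2 DataG2.co 6 [2, 6] cartanInv form where
  comm := good_G2.comm
  three := by norm_num
  totient := (by decide : Nat.totient 6 = 2)
  inv := by decide +kernel
  len := rfl
  mem := by simp
  small r hr hdr := by
    have := hr.two_le
    have h7 : 7 ≤ r := by omega
    refine ⟨show 2 + 1 < r by omega, fun m hm hd => ?_⟩
    simp only [List.mem_cons, List.not_mem_nil, or_false] at hm
    have := Nat.le_of_dvd (by omega) hd
    omega
  order K _ _ := by
    refine ⟨?_, ?_⟩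
    · have h := order_G2 (F := K)
      rw [one_mul] at h
      rw [h, show chevG2.nroots / 2 = 6 by decide +kernel]
      simp [mul_assoc]
    · have h := card_diag_G2 (F := K)
      rwa [one_mul] at h
  form := refl2_form
  good A hA hΦ _ := good A hA hΦ

theorem exists_order {F : Type u} [Field F] [Finite F] (h3 : 3 ≤ Nat.card F) :
    ∃ g : ↥(chevG2.group F), orderOf g = Nat.card F ^ 2 - Nat.card F + 1 := by
  have hG : Nat.card ↥(chevG2.group F) = Nat.card F ^ (chevG2.nroots / 2) *
      ([2, 6].map fun k => Nat.card F ^ k - 1).prod := by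
    have h := order_G2 (F := F)
    rw [one_mul] at h
    rw [h, show chevG2.nroots / 2 = 6 by decide +kernel]
    simp
  obtain ⟨H, h1, h2, -⟩ : ∃ H : Subgroup ↥(chevG2.group F), IsCyclic ↥H ∧
      (Nat.card ↥H : ℤ) = (cyclotomic 6 ℤ).eval (Nat.card F : ℤ) ∧
      Subgroup.centralizer (H : Set ↥(chevG2.group F)) = H := by
    by_cases h5 : Nat.card F = 3 ∨ Nat.card F = 5
    · rcases h5 with h5 | h5
      · exact exists_cyclic_of_primitive DataG2.facts data alcove (F := F) (r := 7) (by norm_num)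
          (by rw [h5]; norm_num)
          (by rw [h5, orderOf_eq_iff (by norm_num)]; decide) (by norm_num) hG
      · exact exists_cyclic_of_primitive DataG2.facts data alcove (F := F) (r := 7) (by norm_num)
          (by rw [h5]; norm_num)
          (by rw [h5, orderOf_eq_iff (by norm_num)]; decide) (by norm_num) hG
    · refine exists_cyclic DataG2.facts data alcove (F := F) ?_ hG
      simp [CfsgLib.Recognition.Zsigmondy.exceptions]
      omega
  obtain ⟨g, hg⟩ := h1.exists_generator
  refine ⟨g, ?_⟩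
  rw [Subgroup.orderOf_coe, orderOf_eq_card_of_forall_mem_zpowers hg]
  simp [cyclotomic_six] at h2
  have hle : Nat.card F ≤ Nat.card F ^ 2 := Nat.le_self_pow two_ne_zero _
  zify [hle]
  linarith

end CfsgLib.Known.ChevSinger.G2
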