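import Cfsg.Agent.Lib.Known.G2Orders.Unip
import Cfsg.Agent.Lib.Known.G2Orders.Six
import Cfsg.Agent.Lib.Known.G2Singer.Main
import Cfsg.Agent.Lib.Chev.Invol.G2Cent
import Cfsg.Agent.Lib.KnownSimple.SpConstruct

/-!
# Elements of the maximal orders of `G2`
-/

set_option autoImplicit false
set_option maxRecDepth 20000

namespace CfsgLib.Chev.G2Orders

open Cfsg.Lie CfsgLib.Chev
open scoped MatrixGroups

universe u

variable {F : Type u} [Field F] [Finite F] {p : ℕ} [CharP F p]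

/-- Products of a long root element and an element of the commuting short `SL2`. -/
theorem exists_mixed (hp : p.Prime) :
    (∃ g : ↥(chevG2.group F), orderOf g = p * (Nat.card F - 1)) ∧
      ∃ g : ↥(chevG2.group F), orderOf g = p * (Nat.card F + 1) := by
  classical
  haveI := Fintype.ofFinite F
  have h6 : (6 : ℕ) < chevG2.nroots := by decide
  have h9 : (9 : ℕ) < chevG2.nroots := by decide
  obtain ⟨φ, hφr, hφ⟩ := DataG2.facts.exists_sl2Hom (F := F) h6
  have hinj := Invol.G2.sl2Hom_injective h6 hφ (q := 7) (by decide)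
    (Or.inr Invol.G2.cartan_val.2.2.2.2.2.1)
  have hsub : ∀ {r : ℕ}, r < chevG2.nroots → chevG2.rootSubgroup F r ≤ chevG2.group F := fun hr g hg => by
    obtain ⟨t, rfl⟩ := (DataG2.facts.mem_rootSubgroup_iff hr).1 hg
    exact DataG2.facts.xU_mem_group hr t
  have hG : ∀ g, φ g ∈ chevG2.group F := fun g =>
    (sup_le (hsub h6) (hsub (DataG2.facts.neg_lt h6))) (hφr ▸ ⟨g, rfl⟩)
  have hcomm : ∀ g, Commute (φ g) (xU chevG2 9 (1 : F)) := by
    intro g
    have hle : φ.range ≤ Subgroup.centralizer ({xU chevG2 9 (1 : F)} : Set (GL chevG2.Idx F)) := by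
      rw [hφr]
      refine sup_le ?_ ?_ <;> intro x hx
      · obtain ⟨t, rfl⟩ := (DataG2.facts.mem_rootSubgroup_iff h6).1 hx
        exact Subgroup.mem_centralizer_singleton_iff.2
          (Invol.Orth.commute DataG2.facts Invol.G2.orth69 (by simp) (by simp) t 1).eq
      · obtain ⟨t, rfl⟩ := (DataG2.facts.mem_rootSubgroup_iff (DataG2.facts.neg_lt h6)).1 hx
        exact Subgroup.mem_centralizer_singleton_iff.2
          (Invol.Orth.commute DataG2.facts Invol.G2.orth69 (by simp) (by simp) t 1).eq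
    exact Subgroup.mem_centralizer_singleton_iff.1 (hle ⟨g, rfl⟩)
  haveI := Fact.mk hp
  have hpow : ∀ n : ℕ, xU chevG2 9 (1 : F) ^ n = xU chevG2 9 (n : F) := by
    intro n
    induction n with
    | zero => simp [DataG2.facts.xU_zero h9]
    | succ n ih => rw [pow_succ, ih, DataG2.facts.xU_add h9, Nat.cast_succ]
  have hx : orderOf (xU chevG2 9 (1 : F)) = p := orderOf_eq_prime
    (by rw [hpow, CharP.cast_eq_zero, DataG2.facts.xU_zero h9])
    (fun h => one_ne_zero (DataG2.facts.xU_eq_one h9 h))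
  have main : ∀ (s : SL(2, F)) (n : ℕ), orderOf s = n → Nat.Coprime p n →
      ∃ g : ↥(chevG2.group F), orderOf g = p * n := by
    intro s n hs hco
    refine ⟨⟨xU chevG2 9 (1 : F) * φ s,
      Subgroup.mul_mem _ (DataG2.facts.xU_mem_group h9 1) (hG s)⟩, ?_⟩
    rw [← Subgroup.orderOf_coe]
    show orderOf (xU chevG2 9 (1 : F) * φ s) = p * n
    rw [(hcomm s).symm.orderOf_mul_eq_mul_orderOf_of_coprime
      (by rwa [hx, orderOf_injective φ hinj, hs]), hx, orderOf_injective φ hinj, hs]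
  obtain ⟨⟨s, hs⟩, ⟨t, ht⟩⟩ := CfsgLib.KnownSimple.exists_sl2_orderOf (F := F)
  rw [← Nat.card_eq_fintype_card] at hs ht
  obtain ⟨f, -, hq⟩ := FiniteField.card F p
  rw [← Nat.card_eq_fintype_card] at hq
  have hdvd : p ∣ Nat.card F := hq ▸ dvd_pow_self p f.ne_zero
  have h2 : 1 ≤ Nat.card F := Nat.card_pos
  refine ⟨main s _ hs ((hp.coprime_iff_not_dvd).2 fun h => hp.not_dvd_one ?_),
    main t _ ht ((hp.coprime_iff_not_dvd).2 fun h => hp.not_dvd_one ((Nat.dvd_add_right hdvd).1 h))⟩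
  have h3 := Nat.dvd_sub hdvd h
  rwa [show Nat.card F - (Nat.card F - 1) = 1 by omega] at h3

theorem exists_three {q : ℕ} (hq : Nat.card F = q) (h3 : 3 ≤ q) :
    ∃ g : ↥(chevG2.group F), orderOf g = q ^ 2 + q + 1 := by
  obtain ⟨H, h1, h2, -⟩ := CfsgLib.Known.G2Singer.main (F := F) q hq h3
  obtain ⟨g, hg⟩ := h1.exists_generator
  exact ⟨g, by rw [Subgroup.orderOf_coe, orderOf_eq_card_of_forall_mem_zpowers hg, h2]⟩

open CfsgLib.Known.G2Singer in
omit [CharP F p] in
theorem exists_quadratic {q : ℕ} (hq : Nat.card F = q) (h3 : 3 ≤ q) :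
    ∃ g : ↥(chevG2.group F), orderOf g = q ^ 2 - 1 := by
  classical
  haveI := Fintype.ofFinite F
  obtain ⟨p, hp⟩ := CharP.exists F
  obtain ⟨f, hpp, hf⟩ := FiniteField.card F p
  haveI : Fact p.Prime := ⟨hpp⟩
  let K := FiniteField.Extension F p 2
  let ι : F →+* K := algebraMap F K
  haveI : CharP K p := charP_of_injective_ringHom ι.injective p
  let σ : K →+* K := iterateFrobenius K p f
  have hσ : ∀ x, σ x = x ^ q := fun x => by
    rw [← hq, Nat.card_eq_fintype_card, hf]; exact iterateFrobenius_def p f x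
  obtain ⟨a, ha⟩ : ∃ a : Kˣ, orderOf a = q ^ 2 - 1 := by
    haveI := Fintype.ofFinite K
    obtain ⟨g, hg⟩ := IsCyclic.exists_generator (α := Kˣ)
    exact ⟨g, by rw [orderOf_eq_card_of_forall_mem_zpowers hg, Nat.card_units,
      FiniteField.natCard_extension, hq]⟩
  have haN : a ^ (q ^ 2 - 1) = 1 := ha ▸ pow_orderOf_eq_one a
  have hqq : a ^ (q * q) = a := by
    rw [← sq, show q ^ 2 = q ^ 2 - 1 + 1 from (Nat.sub_add_cancel (Nat.one_le_pow _ _ (by omega))).symm,
      pow_succ, haN, one_mul]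
  have hne : ∀ i j : ℕ, i < j → j < i + (q ^ 2 - 1) → a ^ i ≠ a ^ j := fun i j h1 h2 h => by
    have := Nat.le_of_dvd (by omega) ((Nat.modEq_iff_dvd' h1.le).1 ((pow_eq_pow_iff_modEq).1 h))
    rw [ha] at this
    omega
  set b : Kˣ := a ^ (1 + q)
  set v : Fin 3 → K := ![(a : K), ((a ^ q : Kˣ) : K), ((b⁻¹ : Kˣ) : K)] with hv
  have hsq : q * q = q ^ 2 := (sq q).symm
  have h9 : 3 * q ≤ q * q := Nat.mul_le_mul_right q h3
  have hvinj : Function.Injective v := by
    have h01 : a ≠ a ^ q := fun e => hne 1 q (by omega) (by omega) (by rwa [pow_one])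
    have h02 : a ≠ b⁻¹ := fun e => hne 0 (q + 2) (by omega) (by omega) (by
      rw [pow_zero, show q + 2 = 1 + q + 1 by ring, pow_succ]
      nth_rw 2 [e]
      exact (mul_inv_cancel b).symm)
    have h12 : a ^ q ≠ b⁻¹ := fun e => hne 0 (1 + q + q) (by omega) (by omega) (by
      rw [pow_zero, pow_add]
      rw [show a ^ (1 + q) = b from rfl, e, mul_inv_cancel])
    intro i j e
    fin_cases i <;> fin_cases j <;>
      simp [hv, Units.val_inj, -Units.val_pow_eq_pow_val, -Units.val_inv_eq_inv_val, h01, h02, h12,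
        h01.symm, h02.symm, h12.symm] at e ⊢
  have hprod : v 0 * v 1 * v 2 = 1 := by
    show (a : K) * ((a ^ q : Kˣ) : K) * ((b⁻¹ : Kˣ) : K) = 1
    rw [← Units.val_mul, ← pow_succ', show q + 1 = 1 + q by ring, ← Units.val_mul, mul_inv_cancel,
      Units.val_one]
  have hs0 : σ (v 0) = v 1 := by rw [hσ]; exact (Units.val_pow_eq_pow_val a q).symm
  have hs1 : σ (v 1) = v 0 := by
    rw [hσ]
    show ((a ^ q : Kˣ) : K) ^ q = (a : K)
    rw [← Units.val_pow_eq_pow_val, ← pow_mul, hqq]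
  have hs2 : σ (v 2) = v 2 := by
    rw [hσ]
    show ((b⁻¹ : Kˣ) : K) ^ q = ((b⁻¹ : Kˣ) : K)
    rw [← Units.val_pow_eq_pow_val, inv_pow, ← pow_mul, add_mul, one_mul, pow_add, hqq, ← pow_succ,
      add_comm q 1]
  obtain ⟨S, g, hSg⟩ := exists_companion ι v hvinj hprod
    (exists_fixed_preimage ι (by
      rw [hq, ← hσ, map_neg, map_add, map_add, map_mul, map_mul, map_mul, hs0, hs1, hs2]
      ring))
    (exists_fixed_preimage ι (by
      rw [hq, ← hσ, map_add, map_add, hs0, hs1, hs2]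
      ring))
  have hconj : extGL ι (psi S) * psi g = psi g * psi (dEl (a : K) (b : K)) := by
    rw [← psi_map, ← map_mul, ← map_mul]
    congr 1
    refine Subtype.ext ?_
    rw [Matrix.SpecialLinearGroup.coe_mul, Matrix.SpecialLinearGroup.coe_mul, hSg,
      dEl_val a.ne_zero (Units.ne_zero _)]
    congr 2
    funext i
    fin_cases i
    · rfl
    · show ((a ^ q : Kˣ) : K) = (a : K)⁻¹ * ((b : Kˣ) : K)
      rw [← Units.val_inv_eq_inv_val, ← Units.val_mul, show b = a ^ (1 + q) from rfl, pow_add, pow_one,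
        inv_mul_cancel_left]
    · show ((b⁻¹ : Kˣ) : K) = ((b : Kˣ) : K)⁻¹
      rw [Units.val_inv_eq_inv_val]
  set d := psi (dEl (a : K) (b : K)) with hd
  refine ⟨⟨psi S, psi_mem S⟩, ?_⟩
  rw [← Subgroup.orderOf_coe]
  show orderOf (psi S) = q ^ 2 - 1
  rw [← orderOf_injective (extGL ι) (extGL_injective ι)]
  have e : extGL ι (psi S) = psi g * d * (psi g)⁻¹ := eq_mul_inv_iff_mul_eq.2 hconj
  rw [e, show psi g * d * (psi g)⁻¹ = MulAut.conj (psi g) d from rfl, MulEquiv.orderOf_eq]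
  refine Nat.dvd_antisymm (orderOf_dvd_of_pow_eq_one ?_) ?_
  · have h1 : dEl (a : K) (b : K) ^ (q ^ 2 - 1) = 1 := by
      refine Subtype.ext ?_
      rw [Matrix.SpecialLinearGroup.coe_pow, dEl_val a.ne_zero (Units.ne_zero _), Matrix.diagonal_pow,
        Matrix.SpecialLinearGroup.coe_one, ← Matrix.diagonal_one]
      congr 1
      funext i
      have h : ∀ x : Kˣ, x ^ (q ^ 2 - 1) = 1 → (x : K) ^ (q ^ 2 - 1) = 1 := fun x hx => by
        rw [← Units.val_pow_eq_pow_val, hx, Units.val_one]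
      have hb : b ^ (q ^ 2 - 1) = 1 := by rw [← pow_mul, mul_comm, pow_mul, haN, one_pow]
      fin_cases i
      · exact h a haN
      · simp [Pi.pow_apply, mul_pow, h a haN, h b hb]
      · simp [Pi.pow_apply, h b hb]
    rw [hd, ← map_pow, h1, map_one]
  · obtain ⟨-, h8, -, -⟩ := e1_e2_e3
    have h8l : (8 : ℕ) < chevG2.nroots := by decide
    have hdc : ∀ t : K, d * xU chevG2 8 t * d⁻¹ = xU chevG2 8 ((a : K) * t) := by
      intro t
      rw [hd, psi_dEl, ← dU_mul, ← facts.hU_eq (r := 6) (idx_lt 0 1),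
        ← facts.hU_eq (r := 10) (idx_lt 1 2), mul_inv_rev]
      rw [show ∀ x y z : GL chevG2.Idx K, x * y * z * (y⁻¹ * x⁻¹) = x * (y * z * y⁻¹) * x⁻¹ from
        fun x y z => by group, facts.hU_conj_xU (r := 10) (idx_lt 1 2) h8l,
        facts.hU_conj_xU (r := 6) (idx_lt 0 1) h8l]
      simp [show prE chevG2 6 8 = (1 : ℤ) from congrArg Prod.fst h8,
        show prE chevG2 10 8 = (0 : ℤ) from congrArg Prod.snd h8]
    have hdn : ∀ n : ℕ, d ^ n * xU chevG2 8 (1 : K) * (d ^ n)⁻¹ = xU chevG2 8 ((a : K) ^ n) := by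
      intro n
      induction n with
      | zero => simp
      | succ n ih =>
        rw [pow_succ', mul_inv_rev, show d * d ^ n * xU chevG2 8 (1 : K) * ((d ^ n)⁻¹ * d⁻¹) =
          d * (d ^ n * xU chevG2 8 (1 : K) * (d ^ n)⁻¹) * d⁻¹ by group, ih, hdc, pow_succ']
    have h := hdn (orderOf d)
    rw [pow_orderOf_eq_one, one_mul, inv_one, mul_one] at h
    have h2 := facts.xU_left_inj h8l h
    rw [← ha]
    exact orderOf_dvd_of_pow_eq_one (Units.ext (by rw [Units.val_pow_eq_pow_val, ← h2, Units.val_one]))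

/-- A unipotent element of order `p ^ 2` for `p = 3, 5`. -/
theorem exists_sq (h35 : p = 3 ∨ p = 5) : ∃ g : ↥(chevG2.group F), orderOf g = p ^ 2 := by
  classical
  have hp : p.Prime := by rcases h35 with rfl | rfl <;> norm_num
  haveI := Fact.mk hp
  refine ⟨⟨G2Invol.el (1 : F) 1 0 0 0 0, G2Invol.el_mem (1 : F) 1 0 0 0 0⟩, ?_⟩
  rw [← Subgroup.orderOf_coe]
  show orderOf (G2Invol.el (1 : F) 1 0 0 0 0) = p ^ 2
  have hnC : ¬ ((p : ℤ) ∣ (co6 p).C) ∨ ¬ ((p : ℤ) ∣ (co6 p).M) := by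
    rcases h35 with rfl | rfl
    · left; decide +kernel
    · right; decide +kernel
  refine orderOf_eq_prime_pow (n := 1) ?_ ?_
  · rw [pow_one, el_pow]
    intro h
    have h' : wU chevG2 (List.zip [6, 7, 8, 9, 10, 11] [(p : F) * 1, (p : F) * 1,
        (p : F) * 0 + (co6 p).A * (1 * 1), (p : F) * 0 + (co6 p).B * (1 * 0) + (co6 p).C * (1 * 1 ^ 2),
        (p : F) * 0 + (co6 p).D * (1 * 0) + (co6 p).E * (1 ^ 2 * 0) + (co6 p).G * (1 * 1 ^ 3),
        (p : F) * 0 + (co6 p).H * (0 * 0) + (co6 p).I * (1 * 0 ^ 2) + (co6 p).J * (1 * 0) +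
          (co6 p).K * (1 * 1 * 0) + (co6 p).L * (1 * 1 ^ 2 * 0) + (co6 p).M * (1 ^ 2 * 1 ^ 3)]) =
        wU chevG2 (List.zip [6, 7, 8, 9, 10, 11] [0, 0, 0, 0, 0, 0]) := by
      rw [← G2Invol.el_zero] at h
      simpa [wU, G2Invol.el] using h
    have := DataG2.facts.coords_unique DataG2.commF (L := [6, 7, 8, 9, 10, 11]) (by decide +kernel)
      (by rfl) (by rfl) h'
    simp only [List.cons.injEq, and_true] at this
    obtain ⟨-, -, -, hC', -, hM⟩ := this
    rcases hnC with h' | h'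
    · exact h' ((CharP.intCast_eq_zero_iff F p _).1 (by simpa using hC'))
    · exact h' ((CharP.intCast_eq_zero_iff F p _).1 (by simpa using hM))
  · have e : uexp p = p ^ 2 := by rcases h35 with rfl | rfl <;> rfl
    rw [show 1 + 1 = 2 from rfl, ← e]
    refine pow_uexp hp ?_
    have hl : ∀ r, 6 ≤ r → r < 12 → ∀ t : F, xU chevG2 r t ∈ rootClosure chevG2 F (chevG2.nroots / 2 ≤ ·) :=
      fun r h1 h2 t => xU_mem_rootClosure (G2Invol.lt12 h2)
        (by rw [G2Invol.n12]; omega) t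
    exact Subgroup.mul_mem _ (hl 6 (by norm_num) (by norm_num) _) (Subgroup.mul_mem _
      (hl 7 (by norm_num) (by norm_num) _) (Subgroup.mul_mem _ (hl 8 (by norm_num) (by norm_num) _)
      (Subgroup.mul_mem _ (hl 9 (by norm_num) (by norm_num) _) (Subgroup.mul_mem _
      (hl 10 (by norm_num) (by norm_num) _) (hl 11 (by norm_num) (by norm_num) _)))))

end CfsgLib.Chev.G2Orders
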