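import Cfsg.Agent.Lib.Spectrum.G2Four.Orders
import Cfsg.Agent.Lib.Chev.All

/-!
# Elements of orders eight and twelve of `G2` in characteristic two
-/

set_option autoImplicit false
set_option maxRecDepth 20000

namespace CfsgLib.Chev.G2Orders

open Cfsg.Lie CfsgLib.Spectrum.G2

/-- `x_r(1)` in the representation of dimension six. -/
def one2 (r : Fin 12) : List (Ix × Ix) := idL ++ linL r ++ quadL r

/-- The product of the generators. -/
def word2 (w : List (Fin 12)) : List (Ix × Ix) := w.foldr (fun r a => red (mulL (one2 r) a)) idL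

/-- Powers. -/
def pow2 (a : List (Ix × Ix)) : ℕ → List (Ix × Ix)
  | 0 => idL
  | n + 1 => red (mulL (pow2 a n) a)

theorem checks : (sameSp (pow2 (word2 [0, 8]) 8) idL ∧ ¬ sameSp (pow2 (word2 [0, 8]) 4) idL) ∧
    (sameSp (pow2 (word2 [0, 2, 9]) 12) idL ∧ ¬ sameSp (pow2 (word2 [0, 2, 9]) 6) idL ∧
      ¬ sameSp (pow2 (word2 [0, 2, 9]) 4) idL) := by decide +kernel

variable (F : Type*) [Field F] [CharP F 2]

theorem lift_eq_iff (a b : List (Ix × Ix)) : lift F (sp a) = lift F (sp b) ↔ sameSp a b :=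
  ⟨fun h => sameSp_of_eq (Matrix.map_injective (ZMod.castHom_injective F) h),
    fun h => by rw [sp_eq h]⟩

theorem root_one2 (r : Fin 12) : root F r 1 = lift F (sp (one2 r)) := by
  simp [root, one2, sp_append, sp_idL, lift_add, lift_one, lin, quad, add_assoc]

theorem exists_eight_twelve [Finite F] :
    (∃ g : ↥(chevG2.group F), orderOf g = 8) ∧ ∃ g : ↥(chevG2.group F), orderOf g = 12 := by
  obtain ⟨φ, hinj, -, hroot⟩ := exists_embedding F
  have hn : chevG2.nroots = 12 := by decide +kernel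
  have hlt : ∀ r : Fin 12, r.val < chevG2.nroots := fun r => lt_of_lt_of_eq r.isLt hn.symm
  let x : Fin 12 → ↥(chevG2.group F) := fun r =>
    ⟨CfsgLib.Chev.xU chevG2 r.val 1, (CfsgLib.Chev.DataG2.facts.group_eq (F := F)).symm ▸
      CfsgLib.Chev.xU_mem_rootClosure (hlt r) trivial 1⟩
  have hx : ∀ r : Fin 12, (φ (x r) : Matrix Ix Ix F) = lift F (sp (one2 r)) := fun r => by
    rw [← root_one2]
    refine hroot _ ⟨r.val, hlt r⟩ 1 ?_
    change ((CfsgLib.Chev.xU chevG2 r.val (1 : F) : GL chevG2.Idx F) : Matrix chevG2.Idx chevG2.Idx F) = _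
    rw [CfsgLib.Chev.DataG2.facts.xU_val (hlt r), ChevalleyDatum.x, dif_pos (hlt r)]
  have hw : ∀ w : List (Fin 12), (φ (w.map x).prod : Matrix Ix Ix F) = lift F (sp (word2 w)) := by
    intro w
    induction w with
    | nil => simp [word2, sp_idL, lift_one]
    | cons r w ih =>
      rw [List.map_cons, List.prod_cons, map_mul, Units.val_mul, hx, ih, ← lift_mul, sp_mul, ← sp_red]
      rfl
  have main : ∀ (w : List (Fin 12)) (n : ℕ), (w.map x).prod ^ n = 1 ↔ sameSp (pow2 (word2 w) n) idL := by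
    intro w n
    rw [← lift_eq_iff F, sp_idL, lift_one, ← map_eq_one_iff φ hinj, map_pow, ← Units.val_eq_one,
      Units.val_pow_eq_pow_val, hw]
    have e : ∀ n, lift F (sp (word2 w)) ^ n = lift F (sp (pow2 (word2 w) n)) := by
      intro n
      induction n with
      | zero => simp [pow2, sp_idL, lift_one]
      | succ n ih => rw [pow_succ, ih, ← lift_mul, sp_mul, pow2, sp_red]
    rw [e n]
  obtain ⟨⟨a8, b8⟩, a12, b12, c12⟩ := checks
  refine ⟨⟨([0, 8].map x).prod, ?_⟩, ⟨([0, 2, 9].map x).prod, ?_⟩⟩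
  · refine orderOf_eq_prime_pow (p := 2) (n := 2) ?_ ?_
    · rw [main]; exact b8
    · rw [main]; exact a8
  · refine orderOf_eq_of_pow_and_pow_div_prime (by norm_num) ((main _ 12).2 a12) fun p hp hd => ?_
    rw [Ne, main]
    rcases (Nat.Prime.dvd_mul hp).1 (show p ∣ 4 * 3 from hd) with hd | hd
    · obtain rfl := (Nat.prime_dvd_prime_iff_eq hp Nat.prime_two).1
        (hp.dvd_of_dvd_pow (show p ∣ 2 ^ 2 from hd))
      exact b12
    · obtain rfl := (Nat.prime_dvd_prime_iff_eq hp Nat.prime_three).1 hd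
      exact c12

end CfsgLib.Chev.G2Orders
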