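import Cfsg.Agent.Lib.Known.G2Orders.Semisimple

/-!
# The characters of rational semisimple elements

The Frobenius map sends a diagonalised rational element to a conjugate one, hence acts on its
character as a Weyl element; this bounds the orders of semisimple elements.
-/

set_option autoImplicit false
set_option maxRecDepth 8000

namespace CfsgLib.Chev.G2Orders

open Cfsg.Lie CfsgLib.Chev.Table CfsgLib.Chev.OddInvol CfsgLib.Known.ChevSinger

universe u

local notation "hF" => (tabOK.facts)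

section Lattice

variable {A : Type*} [CommGroup A] {a b : A}

/-- The value of the character `(a, b)` at a root. -/
def val (a b : A) (r : ℕ) : A := a ^ cr r 0 * b ^ cr r 1

theorem val_lin {r s t : ℕ} {i j : ℤ} (h : ∀ x : Fin 2, cr t x.val = i * cr r x.val + j * cr s x.val) :
    val a b t = val a b r ^ i * val a b s ^ j := by
  have h0 : cr t 0 = i * cr r 0 + j * cr s 0 := h 0
  have h1 : cr t 1 = i * cr r 1 + j * cr s 1 := h 1
  simp only [val, mul_zpow, ← zpow_mul, h0, h1, zpow_add, mul_comm i, mul_comm j]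
  exact mul_mul_mul_comm _ _ _ _

/-- The determinant of two roots. -/
def dt (r s : ℕ) : ℤ := cr r 0 * cr s 1 - cr r 1 * cr s 0

theorem val_basis {r s : ℕ} {n : ℤ} (hr : val a b r ^ n = 1) (hs : val a b s ^ n = 1) :
    a ^ (dt r s * n) = 1 ∧ b ^ (dt r s * n) = 1 := by
  simp only [val, mul_zpow, ← zpow_mul] at hr hs
  set x := cr r 0
  set y := cr r 1
  set z := cr s 0
  set w := cr s 1
  constructor
  · have h1 : (a ^ (x * n) * b ^ (y * n)) ^ w * (a ^ (z * n) * b ^ (w * n)) ^ (-y) = 1 := by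
      rw [hr, hs, one_zpow, one_zpow, one_mul]
    simp only [mul_zpow, ← zpow_mul] at h1
    rw [mul_mul_mul_comm, ← zpow_add, ← zpow_add, show y * n * w + w * n * -y = 0 by ring, zpow_zero,
      mul_one] at h1
    convert h1 using 2
    simp only [dt, x, y, z, w]; ring
  · have h1 : (a ^ (z * n) * b ^ (w * n)) ^ x * (a ^ (x * n) * b ^ (y * n)) ^ (-z) = 1 := by
      rw [hr, hs, one_zpow, one_zpow, one_mul]
    simp only [mul_zpow, ← zpow_mul] at h1
    rw [mul_mul_mul_comm, ← zpow_add, ← zpow_add, show z * n * x + x * n * -z = 0 by ring, zpow_zero,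
      one_mul] at h1
    convert h1 using 2
    simp only [dt, x, y, z, w]; ring

theorem det_small : ∀ r s : Fin 12, dt r.val s.val ∈ ([0, 1, 2, 3, -1, -2, -3] : List ℤ) := by
  decide +kernel

theorem det_zero : ∀ r s : Fin 12, dt r.val s.val = 0 → s.val = r.val ∨ s.val = 11 - r.val := by
  decide +kernel

theorem line_data : ∀ k r : Fin 12, (wa k.val r.val = r.val ∨ wa k.val r.val = 11 - r.val) →
    ∃ s : Fin 12, ∃ i : Fin 7, ∃ j : Fin 2, (dt r.val s.val = 1 ∨ dt r.val s.val = -1) ∧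
      ∀ x : Fin 2, cr (wa k.val s.val) x.val =
        ((i.val : ℤ) - 3) * cr r.val x.val + (2 * (j.val : ℤ) - 1) * cr s.val x.val := by
  decide +kernel

theorem rot_sum : ∀ k : Fin 2, ∀ r : Fin 12, ∀ x : Fin 2,
    cr (wa (8 + k.val) (wa (8 + k.val) r.val)) x.val =
      (-1) * cr r.val x.val + (-1) * cr (wa (8 + k.val) r.val) x.val := by decide +kernel

theorem six_sum : ∀ k : Fin 2, ∀ r : Fin 12, ∀ x : Fin 2,
    cr (wa (10 + k.val) (wa (10 + k.val) r.val)) x.val =
      (-1) * cr r.val x.val + 1 * cr (wa (10 + k.val) r.val) x.val := by decide +kernel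

theorem wa_zero : ∀ r : Fin 12, wa 0 r.val = r.val := by decide +kernel

theorem val_simple : val a b 7 = a ∧ val a b 6 = b := by
  obtain ⟨c60, c61, c70, c71, -⟩ := coords
  simp [val, c60, c61, c70, c71]

theorem val_neg {r : ℕ} (hr : r < 12) : val a b (11 - r) = (val a b r)⁻¹ := by
  have h : ∀ r : Fin 12, ∀ x : Fin 2, cr (11 - r.val) x.val = (-1) * cr r.val x.val + 0 * cr r.val x.val := by
    decide +kernel
  rw [val_lin (h ⟨r, hr⟩), zpow_neg, zpow_one, zpow_zero, mul_one]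

variable {k q : ℕ} (hk : k < 12) (hq : 2 ≤ q)
  (hw : ∀ r < 12, val a b (wa k r) = val a b r ^ q)
include hk hq hw

theorem wa_lt' {r : ℕ} (hr : r < 12) : wa k r < 12 := by
  have _ := hw; have _ := hq
  exact wa_lt hk hr

/-- The five tori. -/
theorem exponent_cases : ∃ n ∈ [q - 1, q + 1, q ^ 2 - 1, q ^ 2 + q + 1, q ^ 2 - q + 1],
    a ^ n = 1 ∧ b ^ n = 1 := by
  have mk : ∀ n : ℕ, (∀ r < 12, val a b r ^ n = 1) → a ^ n = 1 ∧ b ^ n = 1 := fun n h => by
    have h7 := h 7 (by norm_num)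
    have h6 := h 6 (by norm_num)
    rw [val_simple.1] at h7
    rw [val_simple.2] at h6
    exact ⟨h7, h6⟩
  rcases Nat.eq_zero_or_pos k with h0 | h0
  · subst h0
    refine ⟨q - 1, by simp, mk _ fun r hr => ?_⟩
    have e := hw r hr
    rw [wa_zero ⟨r, hr⟩] at e
    exact mul_right_cancel (b := val a b r)
      (by rw [one_mul, ← pow_succ, Nat.sub_add_cancel (by omega : 1 ≤ q)]; exact e.symm)
  rcases Nat.lt_or_ge k 7 with h7 | h7
  · refine ⟨q ^ 2 - 1, by simp, mk _ fun r hr => ?_⟩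
    have e := hw _ (wa_lt' hk hq hw hr)
    rw [involutions ⟨k, by omega⟩ ⟨r, hr⟩, hw r hr, ← pow_mul, ← sq] at e
    exact mul_right_cancel (b := val a b r)
      (by rw [one_mul, ← pow_succ, Nat.sub_add_cancel (Nat.one_le_pow _ _ (by omega))]; exact e.symm)
  rcases Nat.lt_or_ge k 8 with h8 | h8
  · obtain rfl : k = 7 := by omega
    refine ⟨q + 1, by simp, mk _ fun r hr => ?_⟩
    have e := hw r hr
    rw [neg_data ⟨r, hr⟩] at e
    simp only [val_neg hr] at e
    rw [pow_succ, ← e, inv_mul_cancel]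
  rcases Nat.lt_or_ge k 10 with h10 | h10
  · refine ⟨q ^ 2 + q + 1, by simp, mk _ fun r hr => ?_⟩
    have h := rot_sum ⟨k - 8, by omega⟩ ⟨r, hr⟩
    simp only [show 8 + (k - 8) = k by omega] at h
    have e := val_lin (a := a) (b := b) h
    rw [hw _ (wa_lt' hk hq hw hr), hw r hr, zpow_neg, zpow_one, zpow_neg, zpow_one, ← pow_mul, ← sq,
      ← mul_inv] at e
    rw [pow_succ, pow_add, e, mul_assoc, mul_comm (val a b r ^ q), inv_mul_cancel]
  · refine ⟨q ^ 2 - q + 1, by simp, mk _ fun r hr => ?_⟩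
    have h := six_sum ⟨k - 10, by omega⟩ ⟨r, hr⟩
    simp only [show 10 + (k - 10) = k by omega] at h
    have e := val_lin (a := a) (b := b) h
    rw [hw _ (wa_lt' hk hq hw hr), hw r hr, zpow_neg, zpow_one, zpow_one, ← pow_mul, ← sq] at e
    have h2 : val a b r ^ (q ^ 2 - q) * val a b r ^ q = (val a b r)⁻¹ * val a b r ^ q := by
      rw [← pow_add, Nat.sub_add_cancel (by rw [sq]; exact Nat.le_mul_self q), e]
    rw [pow_succ, mul_right_cancel h2, inv_mul_cancel]

/-- With a trivial root the torus is one-dimensional or finite. -/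
theorem exponent_cases_root {r : ℕ} (hr : r < 12) (h1 : val a b r = 1) :
    ∃ n ∈ [q - 1, q + 1, 2, 3], a ^ n = 1 ∧ b ^ n = 1 := by
  have hwr : val a b (wa k r) = 1 := by rw [hw r hr, h1, one_pow]
  by_cases hline : wa k r = r ∨ wa k r = 11 - r
  · obtain ⟨s, i, j, hdet, hs⟩ := line_data ⟨k, hk⟩ ⟨r, hr⟩ hline
    simp only at hdet hs
    have e := val_lin (a := a) (b := b) hs
    rw [hw s.val s.isLt, h1, one_zpow, one_mul] at e
    have key : ∀ n : ℕ, val a b s.val ^ n = 1 → a ^ n = 1 ∧ b ^ n = 1 := by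
      intro n hn
      obtain ⟨ha, hb⟩ := val_basis (a := a) (b := b) (r := r) (s := s.val) (n := (n : ℤ))
        (by rw [h1, one_zpow]) (by rw [zpow_natCast]; exact hn)
      rcases hdet with hd | hd <;> rw [hd] at ha hb
      · rw [one_mul, zpow_natCast] at ha hb; exact ⟨ha, hb⟩
      · rw [neg_one_mul, zpow_neg, zpow_natCast, inv_eq_one] at ha hb; exact ⟨ha, hb⟩
    obtain ⟨jv, hj⟩ := j
    interval_cases jv
    · refine ⟨q + 1, by simp, key _ ?_⟩
      norm_num at e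
      rw [pow_succ, e, inv_mul_cancel]
    · refine ⟨q - 1, by simp, key _ ?_⟩
      norm_num at e
      exact mul_right_cancel (b := val a b s.val)
        (by rw [one_mul, ← pow_succ, Nat.sub_add_cancel (by omega : 1 ≤ q)]; exact e)
  · obtain ⟨ha, hb⟩ := val_basis (a := a) (b := b) (r := r) (s := wa k r) (n := 1)
      (by rw [h1, one_zpow]) (by rw [hwr, one_zpow])
    rw [mul_one] at ha hb
    have hd := det_small ⟨r, hr⟩ ⟨wa k r, wa_lt hk hr⟩
    have hd0 : dt r (wa k r) ≠ 0 := fun h => hline (det_zero ⟨r, hr⟩ ⟨wa k r, wa_lt hk hr⟩ h)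
    simp only [List.mem_cons, List.not_mem_nil, or_false] at hd
    have e6 : ∀ n : ℕ, n ∈ [2, 3] → (dt r (wa k r) = n ∨ dt r (wa k r) = -(n : ℤ)) →
        ∃ m ∈ [q - 1, q + 1, 2, 3], a ^ m = 1 ∧ b ^ m = 1 := by
      intro n hn h
      refine ⟨n, by simp only [List.mem_cons, List.not_mem_nil, or_false] at hn ⊢; omega, ?_⟩
      rcases h with h | h <;> rw [h] at ha hb
      · rw [zpow_natCast] at ha hb; exact ⟨ha, hb⟩
      · rw [zpow_neg, zpow_natCast, inv_eq_one] at ha hb; exact ⟨ha, hb⟩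
    rcases hd with h | h | h | h | h | h | h
    · exact absurd h hd0
    · rw [h, zpow_one] at ha hb
      exact ⟨2, by simp, by rw [ha, one_pow], by rw [hb, one_pow]⟩
    · exact e6 2 (by simp) (Or.inl h)
    · exact e6 3 (by simp) (Or.inl h)
    · rw [h, zpow_neg, zpow_one, inv_eq_one] at ha hb
      exact ⟨2, by simp, by rw [ha, one_pow], by rw [hb, one_pow]⟩
    · exact e6 2 (by simp) (Or.inr h)
    · exact e6 3 (by simp) (Or.inr h)

end Lattice

variable {L : Type} [Field L]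

theorem chi_val (c : ℕ → Lˣ) {r : ℕ} (hr : r < 12) :
    chi chevG2 c r = val (chi chevG2 c 7) (chi chevG2 c 6) r := chi_coords c hr

theorem chi_pow (c : ℕ → Lˣ) (n s : ℕ) :
    chi chevG2 (fun i => c i ^ n) s = chi chevG2 c s ^ n := by
  simp only [chi, ← zpow_natCast, ← zpow_mul, ← Finset.prod_zpow]
  exact Finset.prod_congr rfl fun i _ => by rw [mul_comm]

theorem hT_pow_eq_one {c : ℕ → Lˣ} {n : ℕ} :
    hT chevG2 c ^ n = 1 ↔ chi chevG2 c 7 ^ n = 1 ∧ chi chevG2 c 6 ^ n = 1 := by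
  have e : hT chevG2 c ^ n = hT chevG2 (fun i => c i ^ n) := by
    induction n with
    | zero => simp only [pow_zero]; exact ((hF).hT_one).symm
    | succ n ih => rw [pow_succ, ih, ← (hF).hT_mul]; simp [pow_succ]
  obtain ⟨s0, s1, hr, hn, -⟩ := simples
  refine ⟨fun h => ⟨chiT_pow_eq_one hF h (by omega), chiT_pow_eq_one hF h (by omega)⟩, fun h => ?_⟩
  rw [e, ← (hF).hT_one (F := L)]
  refine hT_ext' tabOK fun q hq => ?_
  have h1 : ∀ s, chi chevG2 (fun _ => (1 : Lˣ)) s = 1 := fun s => by simp [chi]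
  obtain rfl | rfl : q = 0 ∨ q = 1 := by omega
  · rw [s0, chi_pow, h.1, h1]
  · rw [s1, chi_pow, h.2, h1]

/-- Torus elements conjugate in the group are conjugate by a monomial element. -/
theorem exists_monomial_conj [Finite L] {c c' : ℕ → Lˣ} {g : GL chevG2.Idx L}
    (hg : g ∈ chevG2.group L) (h : g * hT chevG2 c * g⁻¹ = hT chevG2 c') :
    ∃ n ∈ chevG2.monomialSubgroup L, n * hT chevG2 c * n⁻¹ = hT chevG2 c' := by
  obtain ⟨b, hb, n, hn, σ, hσ, u, hu, rfl⟩ := (hF).bruhat_exists good_G2.comm hg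
  obtain ⟨u1, hu1, k, hk, rfl⟩ := (hF).mem_borel_iff.1 hb
  set t := hT chevG2 c
  set t' := hT chevG2 c'
  have ht : t ∈ chevG2.diagonalSubgroup L := (hF).mem_diagonal_iff.2 ⟨c, rfl⟩
  have ht' : t' ∈ chevG2.diagonalSubgroup L := (hF).mem_diagonal_iff.2 ⟨c', rfl⟩
  refine ⟨n, hn, ?_⟩
  have hd : n * t * n⁻¹ ∈ chevG2.diagonalSubgroup L := conj_monomial_diag hF hn ht
  have hu1c : t' * u1 * t'⁻¹ ∈ rootClosure chevG2 L (chevG2.nroots / 2 ≤ ·) :=
    (Subgroup.mem_normalizer_iff.1 ((hF).diagonal_le_normalizer _ ht') u1).1 hu1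
  have huc : t⁻¹ * u * t ∈ rootClosure chevG2 L (PosFlip σ) := by
    have := (Subgroup.mem_normalizer_iff.1 ((hF).diagonal_le_normalizer _ (Subgroup.inv_mem _ ht)) u).1 hu
    rwa [inv_inv] at this
  have heq : u1 * (k * (n * t * n⁻¹)) * n * (t⁻¹ * u * t) = t' * u1 * t'⁻¹ * (t' * k) * n * u := by
    rw [mul_inv_eq_iff_eq_mul] at h
    calc u1 * (k * (n * t * n⁻¹)) * n * (t⁻¹ * u * t) = u1 * k * n * u * t := by group
      _ = t' * (u1 * k * n * u) := h
      _ = _ := by group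
  obtain ⟨h1, -⟩ := (hF).bruhat_unique hσ
    (Subgroup.mul_mem _ ((hF).pos_le_borel hu1) ((hF).diagonal_le_borel (Subgroup.mul_mem _ hk hd)))
    (Subgroup.mul_mem _ ((hF).pos_le_borel hu1c) ((hF).diagonal_le_borel (Subgroup.mul_mem _ ht' hk)))
    huc hu heq
  have h5 : (t' * u1 * t'⁻¹)⁻¹ * u1 ∈
      rootClosure chevG2 L (chevG2.nroots / 2 ≤ ·) ⊓ chevG2.diagonalSubgroup L := by
    refine ⟨Subgroup.mul_mem _ (Subgroup.inv_mem _ hu1c) hu1, ?_⟩
    rw [show (t' * u1 * t'⁻¹)⁻¹ * u1 = t' * k * (k * (n * t * n⁻¹))⁻¹ by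
      rw [eq_mul_inv_iff_mul_eq, mul_assoc, h1, inv_mul_cancel_left]]
    exact Subgroup.mul_mem _ (Subgroup.mul_mem _ ht' hk)
      (Subgroup.inv_mem _ (Subgroup.mul_mem _ hk hd))
  rw [(hF).pos_inf_diagonal, Subgroup.mem_bot, inv_mul_eq_one] at h5
  rw [h5, mul_right_inj] at h1
  obtain ⟨a, ha⟩ := (hF).mem_diagonal_iff.1 hk
  have hcm : Commute t' k := by rw [ha]; exact dU_commute _ _
  rw [hcm.eq, mul_right_inj] at h1
  exact h1

/-- The Frobenius equation for a diagonalised rational element of order prime to the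
characteristic. -/
theorem exists_frob {F : Type u} [Field F] [Finite F] {x : GL chevG2.Idx F} {N : ℕ}
    (hx : x ∈ chevG2.group F) (hpow : x ^ N = 1) (hN : (N : F) ≠ 0) :
    ∃ (L : Type) (_ : Field L) (_ : Finite L) (ι : F →+* L), ∃ z ∈ chevG2.group L,
      ∃ (c : ℕ → Lˣ) (k : ℕ), k < 12 ∧ z * extG chevG2 ι x * z⁻¹ = hT chevG2 c ∧
        ∀ r < 12, val (chi chevG2 c 7) (chi chevG2 c 6) (wa k r) =
          val (chi chevG2 c 7) (chi chevG2 c 6) r ^ Nat.card F := by
  classical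
  obtain ⟨p, hp⟩ := CharP.exists F
  haveI : Fact p.Prime := ⟨CharP.char_is_prime F p⟩
  obtain ⟨rr, hrr, hrF⟩ : ∃ r : ℕ, r.Prime ∧ (r : F) ≠ 0 := by
    by_cases h2 : (2 : F) = 0
    · refine ⟨3, by norm_num, fun h3 => one_ne_zero (α := F) ?_⟩
      push_cast at h3
      linear_combination h3 - h2
    · exact ⟨2, by norm_num, by exact_mod_cast h2⟩
  obtain ⟨L0, iL0, iF0, ι0, -, -⟩ := exists_ext (K := F) hrr hrF
  obtain ⟨L, iL, iF, η, z, hz, hzd⟩ := exists_diag_semisimple N L0 (extG chevG2 ι0 x)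
    (extG_mem_group ι0 hF hx) (by rw [← map_pow, hpow, map_one])
    (by rw [← map_natCast ι0]; exact (map_ne_zero ι0).2 hN)
  obtain ⟨c, hc⟩ := (hF).mem_diagonal_iff.1 hzd
  rw [extG_comp] at hc
  set ι := η.comp ι0
  haveI : CharP L p := charP_of_injective_ringHom ι.injective p
  haveI := Fintype.ofFinite F
  obtain ⟨n, -, hn⟩ := FiniteField.card F p
  let φ : L →+* L := iterateFrobenius L p n
  have hφ : ∀ y, φ y = y ^ Nat.card F := fun y => by
    rw [Nat.card_eq_fintype_card, hn]; exact iterateFrobenius_def ..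
  have hfix : extG chevG2 φ (extG chevG2 ι x) = extG chevG2 ι x := by
    rw [extG_comp, show φ.comp ι = ι from RingHom.ext fun y => by
      show φ (ι y) = ι y
      rw [hφ, ← map_pow, Nat.card_eq_fintype_card, FiniteField.pow_card]]
  have e := congrArg (extG chevG2 φ) hc
  rw [map_mul, map_mul, map_inv, hfix, extG_hT] at e
  set z' := extG chevG2 φ z
  set c' : ℕ → Lˣ := fun i => Units.map φ.toMonoidHom (c i)
  obtain ⟨m, hm, hmc⟩ := exists_monomial_conj (g := z' * z⁻¹)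
    (Subgroup.mul_mem _ (extG_mem_group φ hF hz) (Subgroup.inv_mem _ hz))
    (show z' * z⁻¹ * hT chevG2 c * (z' * z⁻¹)⁻¹ = hT chevG2 c' by rw [← e, ← hc]; group)
  obtain ⟨σ, hσ⟩ := (hF).exists_permAct hm
  obtain ⟨c'', hc'', hchi⟩ := conj_chi hF c hm hσ
  obtain ⟨l, d, hd, hl⟩ := (hF).exists_nW hm
  have hσl : σ = sW chevG2 l := (hF).permAct_unique hσ (by
    have := (hF).permAct_mul ((hF).permAct_nW (F := L) l) ((hF).permAct_diagonal hd)
    rwa [mul_one, ← hl] at this)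
  obtain ⟨k, hk, hwk⟩ := mem_wFin_iff.1 (mem_wFin_rank.2 ⟨l.reverse, (hF).sW_reverse l ▸ (by rw [hσl])⟩ :
    σ⁻¹ ∈ wFin chevG2 chevG2.rank)
  refine ⟨L, iL, iF, ι, z, hz, c, k, hk, hc, fun r hr => ?_⟩
  have hr' : r < chevG2.nroots := simples.2.2.2.1.symm ▸ hr
  have h1 := hchi (σ⁻¹ ⟨r, hr'⟩)
  rw [← Equiv.Perm.mul_apply, mul_inv_cancel, Equiv.Perm.one_apply, hwk, wp_val hk] at h1
  have h3 : chi chevG2 c'' r = chi chevG2 c' r := chiT_eq_of_hT (hc''.symm.trans hmc) hr'
  rw [← chi_val c (wa_lt hk hr), ← chi_val c hr, ← h1, h3]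
  refine Units.ext ?_
  rw [Units.val_pow_eq_pow_val, ← hφ]
  exact congrArg Units.val (chiT_map φ c r)

end CfsgLib.Chev.G2Orders
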