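import Cfsg.Agent.Lib.Known.G2Orders.Mixed
import Cfsg.Agent.Lib.Known.G2Orders.Exist
import Cfsg.Agent.Lib.Known.G2Orders.ExistTwo

/-!
# The maximal element orders of `G2(q)`
-/

set_option autoImplicit false

namespace CfsgLib.Chev.G2Orders

open Cfsg.Lie

universe u

/-- The orders maximal under divisibility are an antichain covering all orders. -/
theorem maximal_eq {R T : Set ℕ} (hcov : ∀ m ∈ R, ∃ t ∈ T, m ∣ t) (hT : T ⊆ R)
    (hanti : ∀ s ∈ T, ∀ t ∈ T, s ∣ t → s = t) :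
    {n : ℕ | n ∈ R ∧ ∀ m ∈ R, n ∣ m → m = n} = T := by
  ext n
  refine ⟨fun ⟨hn, h⟩ => ?_, fun hn => ⟨hT hn, fun m hm hnm => ?_⟩⟩
  · obtain ⟨t, ht, hnt⟩ := hcov n hn
    exact h t (hT ht) hnt ▸ ht
  · obtain ⟨t, ht, hmt⟩ := hcov m hm
    exact Nat.dvd_antisymm (hanti n hn t ht (hnm.trans hmt) ▸ hmt) hnm

theorem antichain_odd {p q : ℕ} (hp : p.Prime) (hp2 : p ≠ 2) (hpq : p ∣ q) (hodd : q % 2 = 1)
    (hq : 5 ≤ q) (P : Prop) [Decidable P] :
    ∀ s ∈ ({p * (q + 1), p * (q - 1), q ^ 2 - 1, q ^ 2 + q + 1, q ^ 2 - q + 1} : Set ℕ) ∪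
        (if P then ({p ^ 2} : Set ℕ) else ∅),
      ∀ t ∈ ({p * (q + 1), p * (q - 1), q ^ 2 - 1, q ^ 2 + q + 1, q ^ 2 - q + 1} : Set ℕ) ∪
        (if P then ({p ^ 2} : Set ℕ) else ∅), s ∣ t → s = t := by
  have hsq : 5 * q ≤ q ^ 2 := by rw [sq]; exact Nat.mul_le_mul_right q hq
  have hpl : p ≤ q := Nat.le_of_dvd (by omega) hpq
  have hpo : p % 2 = 1 := by
    rcases hp.eq_two_or_odd with h | h
    · exact absurd h hp2
    · exact h
  have hdq : ∀ {k}, p ∣ k → ¬ p ∣ k + 1 := fun h h' => hp.not_dvd_one ((Nat.dvd_add_right h).1 h')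
  have hdq2 : p ∣ q ^ 2 := dvd_pow hpq two_ne_zero
  have nA : ¬ p ∣ q + 1 := hdq hpq
  have nB : ¬ p ∣ q - 1 := fun h => hdq h (by rwa [Nat.sub_add_cancel (by omega : 1 ≤ q)])
  have nC : ¬ p ∣ q ^ 2 - 1 := fun h => hdq h (by rwa [Nat.sub_add_cancel (by omega : 1 ≤ q ^ 2)])
  have nD : ¬ p ∣ q ^ 2 + q + 1 := hdq (Nat.dvd_add hdq2 hpq)
  have nE : ¬ p ∣ q ^ 2 - q + 1 := hdq (Nat.dvd_sub hdq2 hpq)
  have big : ∀ {s}, ¬ p ∣ s → ∀ {k}, s ∣ p * k → 0 < k → k < s → False := fun hs k h hk hks => by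
    have := Nat.le_of_dvd hk ((Nat.Coprime.dvd_mul_left
      ((hp.coprime_iff_not_dvd.2 hs).symm)).1 h)
    omega
  have small : ∀ {s t}, s ∣ t → t < 2 * s → 0 < t → s = t := fun {s t} ⟨k, hk⟩ h1 h0 => by
    rcases k with _ | _ | k
    · omega
    · omega
    · exfalso
      rw [hk, Nat.mul_succ, Nat.mul_succ] at h1
      omega
  have pp : ∀ {k l}, p * k ∣ p * l → k ∣ l := fun h => Nat.dvd_of_mul_dvd_mul_left hp.pos h
  intro s hs t ht hst
  have hS : ∀ x, x ∈ (if P then ({p ^ 2} : Set ℕ) else ∅) → x = p * p := fun x hx => by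
    split_ifs at hx
    · rw [Set.mem_singleton_iff.1 hx, sq]
    · exact absurd hx (Set.notMem_empty x)
  simp only [Set.mem_union, Set.mem_insert_iff, Set.mem_singleton_iff] at hs ht
  rcases hs with (rfl | rfl | rfl | rfl | rfl) | hs
  · rcases ht with (rfl | rfl | rfl | rfl | rfl) | ht
    · rfl
    · exact absurd (Nat.le_of_dvd (by omega) (pp hst)) (by omega)
    · exact absurd ((dvd_mul_right p _).trans hst) nC
    · exact absurd ((dvd_mul_right p _).trans hst) nD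
    · exact absurd ((dvd_mul_right p _).trans hst) nE
    · rw [hS _ ht] at hst
      exact absurd (Nat.le_of_dvd hp.pos (pp hst)) (by omega)
  · rcases ht with (rfl | rfl | rfl | rfl | rfl) | ht
    · have h2 := Nat.dvd_sub (pp hst) dvd_rfl
      rw [show q + 1 - (q - 1) = 2 by omega] at h2
      exact absurd (Nat.le_of_dvd two_pos h2) (by omega)
    · rfl
    · exact absurd ((dvd_mul_right p _).trans hst) nC
    · exact absurd ((dvd_mul_right p _).trans hst) nD
    · exact absurd ((dvd_mul_right p _).trans hst) nE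
    · rw [hS _ ht] at hst
      rcases hp.eq_one_or_self_of_dvd _ (pp hst) with h | h <;> omega
  · rcases ht with (rfl | rfl | rfl | rfl | rfl) | ht
    · exact (big nC hst (by omega) (by omega)).elim
    · exact (big nC hst (by omega) (by omega)).elim
    · rfl
    · exact small hst (by omega) (by omega)
    · exact small hst (by omega) (by omega)
    · rw [hS _ ht] at hst
      exact (big nC hst hp.pos (by omega)).elim
  · rcases ht with (rfl | rfl | rfl | rfl | rfl) | ht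
    · exact (big nD hst (by omega) (by omega)).elim
    · exact (big nD hst (by omega) (by omega)).elim
    · exact small hst (by omega) (by omega)
    · rfl
    · exact small hst (by omega) (by omega)
    · rw [hS _ ht] at hst
      exact (big nD hst hp.pos (by omega)).elim
  · rcases ht with (rfl | rfl | rfl | rfl | rfl) | ht
    · exact (big nE hst (by omega) (by omega)).elim
    · exact (big nE hst (by omega) (by omega)).elim
    · exact small hst (by omega) (by omega)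
    · exact small hst (by omega) (by omega)
    · rfl
    · rw [hS _ ht] at hst
      exact (big nE hst hp.pos (by omega)).elim
  · rw [hS _ hs] at hst ⊢
    rcases ht with (rfl | rfl | rfl | rfl | rfl) | ht
    · exact absurd (pp hst) nA
    · exact absurd (pp hst) nB
    · exact absurd ((dvd_mul_right p p).trans hst) nC
    · exact absurd ((dvd_mul_right p p).trans hst) nD
    · exact absurd ((dvd_mul_right p p).trans hst) nE
    · exact (hS _ ht).symm

variable {F : Type u} [Field F] [Fintype F]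

theorem main_odd (p a : ℕ) (hp : p.Prime) (hp2 : p ≠ 2) (ha : 1 ≤ a)
    (hF : Fintype.card F = p ^ a) (hq5 : 5 ≤ Fintype.card F) :
    {n : ℕ | n ∈ Set.range (orderOf : ↥(Cfsg.Lie.chevG2.group F) → ℕ) ∧
        ∀ m ∈ Set.range (orderOf : ↥(Cfsg.Lie.chevG2.group F) → ℕ), n ∣ m → m = n} =
      ({p * (p ^ a + 1), p * (p ^ a - 1), p ^ (2 * a) - 1, p ^ (2 * a) + p ^ a + 1,
        p ^ (2 * a) - p ^ a + 1} : Set ℕ) ∪ (if p = 3 ∨ p = 5 then ({p ^ 2} : Set ℕ) else ∅) := by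
  classical
  haveI := Fact.mk hp
  haveI : CharP F p := charP_of_card_eq_prime_pow hF
  have hpq : p ∣ p ^ a := dvd_pow_self p (by omega)
  have hodd : p ^ a % 2 = 1 := Nat.odd_iff.1 ((hp.odd_of_ne_two hp2).pow)
  have hq : Nat.card F = p ^ a := by rw [Nat.card_eq_fintype_card, hF]
  rw [hF] at hq5
  rw [show p ^ (2 * a) = (p ^ a) ^ 2 by rw [← pow_mul, mul_comm]]
  generalize p ^ a = q at hpq hodd hq hq5 ⊢
  refine maximal_eq ?_ ?_ (antichain_odd hp hp2 hpq hodd hq5 _)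
  · rintro m ⟨x, rfl⟩
    rw [← Subgroup.orderOf_coe]
    have hmix : p * (q + 1) ∈ ({p * (q + 1), p * (q - 1), q ^ 2 - 1, q ^ 2 + q + 1, q ^ 2 - q + 1} :
        Set ℕ) ∪ (if p = 3 ∨ p = 5 then ({p ^ 2} : Set ℕ) else ∅) := Or.inl (by simp)
    rcases order_cases (p := p) hp x.2 with h | ⟨n, hn, h⟩ | ⟨n, hn, h⟩ | ⟨h2, -⟩
    · by_cases h35 : p = 3 ∨ p = 5
      · refine ⟨p ^ 2, Or.inr (by rw [if_pos h35]; rfl), ?_⟩
        rcases h35 with rfl | rfl <;> simpa [uexp] using h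
      · rw [not_or] at h35
        rw [uexp, if_neg hp2, if_neg h35.1, if_neg h35.2] at h
        exact ⟨_, hmix, h.trans (dvd_mul_right p _)⟩
    · rw [hq] at hn
      simp only [List.mem_cons, List.not_mem_nil, or_false] at hn
      rcases hn with rfl | rfl | rfl | rfl | rfl
      · exact ⟨q ^ 2 - 1, Or.inl (by simp), h.trans ⟨q + 1, by
          rw [mul_comm, ← Nat.sq_sub_sq, one_pow]⟩⟩
      · exact ⟨q ^ 2 - 1, Or.inl (by simp), h.trans ⟨q - 1, by rw [← Nat.sq_sub_sq, one_pow]⟩⟩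
      · exact ⟨_, Or.inl (by simp), h⟩
      · exact ⟨_, Or.inl (by simp), h⟩
      · exact ⟨_, Or.inl (by simp), h⟩
    · rw [hq] at hn
      simp only [List.mem_cons, List.not_mem_nil, or_false] at hn
      rcases hn with rfl | rfl | rfl | rfl
      · exact ⟨_, Or.inl (by simp), h⟩
      · exact ⟨_, Or.inl (by simp), h⟩
      · exact ⟨_, hmix, h.trans (Nat.mul_dvd_mul_left p (Nat.dvd_of_mod_eq_zero (by omega)))⟩
      · by_cases h3 : p = 3
        · exact ⟨p ^ 2, Or.inr (by rw [if_pos (Or.inl h3)]; rfl), by rw [← h3] at h; rw [sq]; exact h⟩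
        · have : ¬ 3 ∣ q := fun h3q => by
            obtain ⟨n, -, hn⟩ := FiniteField.card F p
            rw [← Nat.card_eq_fintype_card, hq] at hn
            exact h3 ((Nat.prime_dvd_prime_iff_eq Nat.prime_three hp).1
              (Nat.prime_three.dvd_of_dvd_pow (hn ▸ h3q))).symm
          by_cases h31 : 3 ∣ q + 1
          · exact ⟨_, hmix, h.trans (Nat.mul_dvd_mul_left p h31)⟩
          · exact ⟨p * (q - 1), Or.inl (by simp), h.trans (Nat.mul_dvd_mul_left p (by rcases (by omega : q % 3 = 0 ∨ q % 3 = 1 ∨ q % 3 = 2) with e | e | e <;> omega))⟩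
    · exact absurd h2 hp2
  · intro t ht
    simp only [Set.mem_union, Set.mem_insert_iff, Set.mem_singleton_iff] at ht
    rcases ht with (rfl | rfl | rfl | rfl | rfl) | ht
    · obtain ⟨g, hg⟩ := (exists_mixed (F := F) hp).2; exact ⟨g, by rw [hg, hq]⟩
    · obtain ⟨g, hg⟩ := (exists_mixed (F := F) hp).1; exact ⟨g, by rw [hg, hq]⟩
    · exact exists_quadratic hq (by omega)
    · exact exists_three hq (by omega)
    · obtain ⟨g, hg⟩ := CfsgLib.Known.ChevSinger.G2.exists_order (F := F) (by omega)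
      exact ⟨g, by rw [hg, hq]⟩
    · split_ifs at ht with h35
      · rw [Set.mem_singleton_iff.1 ht]; exact exists_sq h35
      · exact absurd ht (Set.notMem_empty t)

theorem main_even (a : ℕ) (ha : 2 ≤ a) (hF : Fintype.card F = 2 ^ a) :
    {n : ℕ | n ∈ Set.range (orderOf : ↥(Cfsg.Lie.chevG2.group F) → ℕ) ∧
        ∀ m ∈ Set.range (orderOf : ↥(Cfsg.Lie.chevG2.group F) → ℕ), n ∣ m → m = n} ⊆
      ({8, 12, 2 * (2 ^ a + 1), 2 * (2 ^ a - 1), 2 ^ (2 * a) - 1, 2 ^ (2 * a) + 2 ^ a + 1,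
        2 ^ (2 * a) - 2 ^ a + 1} : Set ℕ) ∧
    ({8, 12, 2 * (2 ^ a + 1), 2 * (2 ^ a - 1), 2 ^ (2 * a) - 1, 2 ^ (2 * a) + 2 ^ a + 1,
        2 ^ (2 * a) - 2 ^ a + 1} : Set ℕ) ⊆
      Set.range (orderOf : ↥(Cfsg.Lie.chevG2.group F) → ℕ) := by
  classical
  haveI := Fact.mk Nat.prime_two
  haveI : CharP F 2 := charP_of_card_eq_prime_pow hF
  have hq : Nat.card F = 2 ^ a := by rw [Nat.card_eq_fintype_card, hF]
  have h4 : 4 ≤ 2 ^ a := le_trans (by norm_num) (Nat.pow_le_pow_right two_pos ha)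
  rw [show 2 ^ (2 * a) = (2 ^ a) ^ 2 by rw [← pow_mul, mul_comm]]
  generalize 2 ^ a = q at hq h4 ⊢
  have hsub : ({8, 12, 2 * (q + 1), 2 * (q - 1), q ^ 2 - 1, q ^ 2 + q + 1, q ^ 2 - q + 1} : Set ℕ) ⊆
      Set.range (orderOf : ↥(Cfsg.Lie.chevG2.group F) → ℕ) := by
    intro t ht
    simp only [Set.mem_insert_iff, Set.mem_singleton_iff] at ht
    rcases ht with rfl | rfl | rfl | rfl | rfl | rfl | rfl
    · exact (exists_eight_twelve F).1
    · exact (exists_eight_twelve F).2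
    · obtain ⟨g, hg⟩ := (exists_mixed (F := F) Nat.prime_two).2; exact ⟨g, by rw [hg, hq]⟩
    · obtain ⟨g, hg⟩ := (exists_mixed (F := F) Nat.prime_two).1; exact ⟨g, by rw [hg, hq]⟩
    · exact exists_quadratic hq (by omega)
    · exact exists_three hq (by omega)
    · obtain ⟨g, hg⟩ := CfsgLib.Known.ChevSinger.G2.exists_order (F := F) (by omega)
      exact ⟨g, by rw [hg, hq]⟩
  refine ⟨?_, hsub⟩
  rintro n ⟨⟨x, rfl⟩, hmax⟩
  suffices ∃ t ∈ ({8, 12, 2 * (q + 1), 2 * (q - 1), q ^ 2 - 1, q ^ 2 + q + 1, q ^ 2 - q + 1} : Set ℕ),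
      orderOf x ∣ t by
    obtain ⟨t, ht, hxt⟩ := this
    rw [← hmax t (hsub ht) hxt]
    exact ht
  rw [← Subgroup.orderOf_coe]
  rcases order_cases (p := 2) Nat.prime_two x.2 with h | ⟨n, hn, h⟩ | ⟨n, hn, h⟩ | ⟨-, h⟩
  · exact ⟨8, by simp, by simpa [uexp] using h⟩
  · rw [hq] at hn
    simp only [List.mem_cons, List.not_mem_nil, or_false] at hn
    rcases hn with rfl | rfl | rfl | rfl | rfl
    · exact ⟨q ^ 2 - 1, by simp, h.trans ⟨q + 1, by rw [mul_comm, ← Nat.sq_sub_sq, one_pow]⟩⟩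
    · exact ⟨q ^ 2 - 1, by simp, h.trans ⟨q - 1, by rw [← Nat.sq_sub_sq, one_pow]⟩⟩
    · exact ⟨_, by simp, h⟩
    · exact ⟨_, by simp, h⟩
    · exact ⟨_, by simp, h⟩
  · rw [hq] at hn
    simp only [List.mem_cons, List.not_mem_nil, or_false] at hn
    rcases hn with rfl | rfl | rfl | rfl
    · exact ⟨_, by simp, h⟩
    · exact ⟨_, by simp, h⟩
    · exact ⟨8, by simp, h.trans (by norm_num)⟩
    · exact ⟨12, by simp, h.trans (by norm_num)⟩
  · exact ⟨12, by simp, h⟩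

end CfsgLib.Chev.G2Orders
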