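import Cfsg.Agent.Lib.Known.ChevG2Involutions

/-!
# The exponent of the maximal unipotent subgroup of `G2`

The powers in the coordinates of the ordered product are given by integer polynomials in the
exponent, without constant term and of degree at most five.
-/

set_option autoImplicit false
set_option maxRecDepth 20000
set_option synthInstance.maxSize 4000

namespace CfsgLib.Chev.G2Orders

open Cfsg.Lie

universe v

variable {F : Type v} [Field F]

local notation "X" => xU chevG2 (F := F)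

theorem xpush {r s : ℕ} {t u : F} {W : GL chevG2.Idx F}
    (h : X s u * X r t = X r t * X s u * W) (Z : GL chevG2.Idx F) :
    X s u * (X r t * Z) = X r t * (X s u * (W * Z)) := by
  rw [← mul_assoc, h, mul_assoc, mul_assoc]

theorem xpush_nil {r s : ℕ} (h : (r, s) ∈ [(6, 8), (6, 9), (6, 11), (7, 10), (7, 11), (8, 10),
    (8, 11), (9, 10), (9, 11), (10, 11), (4, 6)]) (hr : r < 12) (hs : s < 12) (t u : F)
    (Z : GL chevG2.Idx F) : X s u * (X r t * Z) = X r t * (X s u * Z) := by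
  rw [← mul_assoc, G2Invol.swap_nil h hr hs, mul_assoc]

theorem xmerge {r : ℕ} (hr : r < 12) (a b : F) (Z : GL chevG2.Idx F) :
    X r a * (X r b * Z) = X r (a + b) * Z := by
  rw [← mul_assoc, DataG2.facts.xU_add (G2Invol.lt12 hr)]

open G2Invol in
theorem d76 (t u : F) : X 7 u * X 6 t = X 6 t * X 7 u *
    (X 8 (-(t * u)) * (X 9 (-(t * u ^ 2)) * (X 10 (t * u ^ 3) * X 11 (-2 * (t ^ 2 * u ^ 3))))) := by
  obtain ⟨h, -, -, -, -, -, hne, -⟩ := G2Invol.tabs
  rw [DataG2.facts.xU_comm hC (lt12) (lt12) (hne (6, 7) (by simp)).1 (hne (6, 7) (by simp)).2]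
  simp [cwR, h, wU, mul_assoc]

open G2Invol in
theorem d87 (t u : F) : X 8 u * X 7 t = X 7 t * X 8 u *
    (X 9 (2 * (t * u)) * (X 10 (-3 * (t ^ 2 * u)) * X 11 (-3 * (t * u ^ 2)))) := by
  obtain ⟨-, h, -, -, -, -, hne, -⟩ := G2Invol.tabs
  rw [DataG2.facts.xU_comm hC (lt12) (lt12) (hne (7, 8) (by simp)).1 (hne (7, 8) (by simp)).2]
  simp [cwR, h, wU, mul_assoc]

open G2Invol in
theorem d97 (t u : F) : X 9 u * X 7 t = X 7 t * X 9 u * X 10 (-3 * (t * u)) := by
  obtain ⟨-, -, h, -, -, -, hne, -⟩ := G2Invol.tabs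
  rw [DataG2.facts.xU_comm hC (lt12) (lt12) (hne (7, 9) (by simp)).1 (hne (7, 9) (by simp)).2]
  simp [cwR, h, wU, mul_assoc]

open G2Invol in
theorem d98 (t u : F) : X 9 u * X 8 t = X 8 t * X 9 u * X 11 (-3 * (t * u)) := by
  obtain ⟨-, -, -, h, -, -, hne, -⟩ := G2Invol.tabs
  rw [DataG2.facts.xU_comm hC (lt12) (lt12) (hne (8, 9) (by simp)).1 (hne (8, 9) (by simp)).2]
  simp [cwR, h, wU, mul_assoc]

open G2Invol in
theorem d106 (t u : F) : X 10 u * X 6 t = X 6 t * X 10 u * X 11 (-(t * u)) := by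
  obtain ⟨-, -, -, -, h, -, hne, -⟩ := G2Invol.tabs
  rw [DataG2.facts.xU_comm hC (lt12) (lt12) (hne (6, 10) (by simp)).1 (hne (6, 10) (by simp)).2]
  simp [cwR, h, wU]

open G2Invol in
/-- The product in coordinates. -/
theorem el_mul (a b c d e f a' b' c' d' e' f' : F) :
    el a b c d e f * el a' b' c' d' e' f' =
      el (a + a') (b + b') (c + c' - a' * b) (d + d' - a' * b ^ 2 + 2 * b' * (c - a' * b))
        (e + e' + a' * b ^ 3 - 3 * b' ^ 2 * (c - a' * b) - 3 * b' * (d - a' * b ^ 2))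
        (f + f' + 3 * a' * b ^ 2 * c - a' * e - 2 * a' ^ 2 * b ^ 3 - 3 * b' * (c - a' * b) ^ 2 -
          3 * c' * (d - a' * b ^ 2 + 2 * b' * (c - a' * b))) := by
  simp only [el, mul_assoc]
  rw [xpush_nil (r := 6) (s := 11) (by simp) (by norm_num) (by norm_num)]
  rw [xpush (d106 _ _)]
  rw [xpush_nil (r := 6) (s := 9) (by simp) (by norm_num) (by norm_num)]
  rw [xpush_nil (r := 6) (s := 8) (by simp) (by norm_num) (by norm_num)]
  rw [xpush (d76 _ _), xmerge (r := 6) (by norm_num)]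
  simp only [mul_assoc, xpush_nil (r := 8) (s := 11) (by simp) (by norm_num) (by norm_num),
    xpush_nil (r := 8) (s := 10) (by simp) (by norm_num) (by norm_num),
    xpush_nil (r := 7) (s := 11) (by simp) (by norm_num) (by norm_num),
    xpush_nil (r := 7) (s := 10) (by simp) (by norm_num) (by norm_num),
    xpush_nil (r := 9) (s := 11) (by simp) (by norm_num) (by norm_num),
    xpush_nil (r := 9) (s := 10) (by simp) (by norm_num) (by norm_num),
    xpush_nil (r := 10) (s := 11) (by simp) (by norm_num) (by norm_num),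
    xpush (d98 _ _), xpush (d97 _ _), xpush (d87 _ _),
    xmerge (r := 7) (by norm_num), xmerge (r := 8) (by norm_num), xmerge (r := 9) (by norm_num),
    xmerge (r := 10) (by norm_num), xmerge (r := 11) (by norm_num),
    DataG2.facts.xU_add (lt12 (r := 11))]
  congr 1
  refine congr_arg₂ _ rfl (congr_arg₂ _ (congrArg _ ?_) (congr_arg₂ _ (congrArg _ ?_)
    (congr_arg₂ _ (congrArg _ ?_) (congrArg _ ?_))))
  all_goals ring

/-- The coefficients of the powers. -/
structure Co where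
  A : ℤ
  B : ℤ
  C : ℤ
  D : ℤ
  E : ℤ
  G : ℤ
  H : ℤ
  I : ℤ
  J : ℤ
  K : ℤ
  L : ℤ
  M : ℤ

/-- One step of the recursion. -/
def Co.next (x : Co) (m : ℤ) : Co where
  A := x.A - m
  B := x.B + 2 * m
  C := x.C - m ^ 2 + 2 * x.A - 2 * m
  D := x.D - 3 * m
  E := x.E - 3 * m - 3 * x.B
  G := x.G + m ^ 3 - 3 * x.A + 3 * m - 3 * x.C + 3 * m ^ 2
  H := x.H - 3 * m
  I := x.I - 3 * m ^ 2 - 3 * (x.B + 2 * m)
  J := x.J - m
  K := x.K - x.D
  L := x.L + 3 * m ^ 3 - x.E - 6 * m * (x.A - m) - 3 * (x.C - m ^ 2 + 2 * x.A - 2 * m)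
  M := x.M + 3 * m ^ 2 * x.A - x.G - 2 * m ^ 3 - 3 * (x.A - m) ^ 2

/-- The coefficients of the `n`-th power. -/
def co6 : ℕ → Co
  | 0 => ⟨0, 0, 0, 0, 0, 0, 0, 0, 0, 0, 0, 0⟩
  | n + 1 => (co6 n).next n

/-- The list of the coefficients. -/
def Co.list (x : Co) : List ℤ :=
  [x.A, x.B, x.C, x.D, x.E, x.G, x.H, x.I, x.J, x.K, x.L, x.M]

open G2Invol in
theorem el_pow (a b c d e f : F) (n : ℕ) :
    el a b c d e f ^ n = el (n * a) (n * b) (n * c + (co6 n).A * (a * b))
      (n * d + (co6 n).B * (b * c) + (co6 n).C * (a * b ^ 2))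
      (n * e + (co6 n).D * (b * d) + (co6 n).E * (b ^ 2 * c) + (co6 n).G * (a * b ^ 3))
      (n * f + (co6 n).H * (c * d) + (co6 n).I * (b * c ^ 2) + (co6 n).J * (a * e) +
        (co6 n).K * (a * b * d) + (co6 n).L * (a * b ^ 2 * c) + (co6 n).M * (a ^ 2 * b ^ 3)) := by
  induction n with
  | zero => simp [co6, el_zero]
  | succ n ih =>
    rw [pow_succ, ih, el_mul]
    simp only [co6, Co.next]
    push_cast
    congr 1 <;> ring

/-- The closed forms, times `120`. -/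
theorem co6_closed : ∀ n : ℕ,
    120 * (co6 n).A = -(60 * (n : ℤ) * (n - 1)) ∧
    120 * (co6 n).B = 2 * (60 * (n : ℤ) * (n - 1)) ∧
    120 * (co6 n).C = -3 * (60 * (n : ℤ) * (n - 1)) - 4 * (20 * n * (n - 1) * (n - 2)) ∧
    120 * (co6 n).D = -3 * (60 * (n : ℤ) * (n - 1)) ∧
    120 * (co6 n).E = -3 * (60 * (n : ℤ) * (n - 1)) - 6 * (20 * n * (n - 1) * (n - 2)) ∧
    120 * (co6 n).G = 7 * (60 * (n : ℤ) * (n - 1)) + 24 * (20 * n * (n - 1) * (n - 2)) +
      18 * (5 * n * (n - 1) * (n - 2) * (n - 3)) ∧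
    120 * (co6 n).H = -3 * (60 * (n : ℤ) * (n - 1)) ∧
    120 * (co6 n).I = -9 * (60 * (n : ℤ) * (n - 1)) - 12 * (20 * n * (n - 1) * (n - 2)) ∧
    120 * (co6 n).J = -(60 * (n : ℤ) * (n - 1)) ∧
    120 * (co6 n).K = 3 * (20 * (n : ℤ) * (n - 1) * (n - 2)) ∧
    120 * (co6 n).L = 18 * (60 * (n : ℤ) * (n - 1)) + 66 * (20 * n * (n - 1) * (n - 2)) +
      54 * (5 * n * (n - 1) * (n - 2) * (n - 3)) ∧
    120 * (co6 n).M = -5 * (60 * (n : ℤ) * (n - 1)) - 52 * (20 * n * (n - 1) * (n - 2)) -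
      117 * (5 * n * (n - 1) * (n - 2) * (n - 3)) -
      72 * (n * (n - 1) * (n - 2) * (n - 3) * (n - 4)) := by
  intro n
  induction n with
  | zero => simp [co6]
  | succ n ih =>
    obtain ⟨hA, hB, hC', hD, hE, hG, hH, hI, hJ, hK, hL, hM⟩ := ih
    simp only [co6, Co.next]
    push_cast
    refine ⟨by linear_combination hA, by linear_combination hB, ?_, by linear_combination hD, ?_,
      ?_, by linear_combination hH, ?_, by linear_combination hJ, ?_, ?_, ?_⟩
    · linear_combination hC' + 2 * hA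
    · linear_combination hE - 3 * hB
    · linear_combination hG - 3 * hA - 3 * hC'
    · linear_combination hI - 3 * hB
    · linear_combination hK - hD
    · linear_combination hL - hE - 6 * (n : ℤ) * hA + 6 * hA * 0 - 3 * hC' - 6 * hA
    · have hA' : (co6 n).A * 2 = -((n : ℤ) * (n - 1)) := by linarith
      linear_combination hM + 3 * (n : ℤ) ^ 2 * hA - hG -
        90 * (2 * ((co6 n).A - n) - (n : ℤ) * (n - 1) - 2 * n) * hA'

theorem co6_small : (∀ x ∈ (co6 8).list, (2 : ℤ) ∣ x) ∧ (∀ x ∈ (co6 9).list, (3 : ℤ) ∣ x) ∧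
    (∀ x ∈ (co6 25).list, (5 : ℤ) ∣ x) := by decide +kernel

/-- The exponent bound in characteristic `p`. -/
def uexp (p : ℕ) : ℕ := if p = 2 then 8 else if p = 3 then 9 else if p = 5 then 25 else p

theorem co6_dvd {p : ℕ} (hp : p.Prime) : ∀ x ∈ (co6 (uexp p)).list, (p : ℤ) ∣ x := by
  obtain ⟨h2, h3, h5⟩ := co6_small
  unfold uexp
  split_ifs with e2 e3 e5
  · subst e2; exact h2
  · subst e3; exact h3
  · subst e5; exact h5
  · have h7 : ¬ (p : ℤ) ∣ 120 := fun h => by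
      have h' : p ∣ 120 := Int.natCast_dvd_natCast.1 h
      rw [show (120 : ℕ) = 2 * 2 * 2 * 3 * 5 from rfl, hp.dvd_mul, hp.dvd_mul, hp.dvd_mul,
        hp.dvd_mul, Nat.prime_dvd_prime_iff_eq hp Nat.prime_two,
        Nat.prime_dvd_prime_iff_eq hp Nat.prime_three,
        Nat.prime_dvd_prime_iff_eq hp (by norm_num)] at h'
      omega
    obtain ⟨hA, hB, hC', hD, hE, hG, hH, hI, hJ, hK, hL, hM⟩ := co6_closed p
    have key : ∀ x : ℤ, (p : ℤ) ∣ 120 * x → (p : ℤ) ∣ x := fun x h =>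
      ((Nat.prime_iff_prime_int.1 hp).dvd_or_dvd h).resolve_left h7
    intro x hx
    refine key x ?_
    simp only [Co.list, List.mem_cons, List.not_mem_nil, or_false] at hx
    rcases hx with rfl | rfl | rfl | rfl | rfl | rfl | rfl | rfl | rfl | rfl | rfl | rfl <;>
      simp only [hA, hB, hC', hD, hE, hG, hH, hI, hJ, hK, hL, hM, mul_assoc, dvd_neg] <;>
      repeat' first
        | exact dvd_mul_right _ _
        | apply dvd_sub
        | apply dvd_add
        | apply Dvd.dvd.mul_left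

theorem p_dvd_uexp (p : ℕ) : p ∣ uexp p := by
  unfold uexp
  split_ifs with e2 e3 e5 <;> simp_all

/-- The exponent of the maximal unipotent subgroup. -/
theorem pow_uexp [Finite F] {p : ℕ} [CharP F p] (hp : p.Prime) {g : GL chevG2.Idx F}
    (hg : g ∈ rootClosure chevG2 F (chevG2.nroots / 2 ≤ ·)) : g ^ uexp p = 1 := by
  obtain ⟨a, b, c, d, e, f, rfl⟩ := G2Invol.exists_el (g := g) (by rw [DataG2.facts.posUnipotent_eq]; exact hg)
  have h0 : (uexp p : F) = 0 := (CharP.cast_eq_zero_iff F p _).2 (p_dvd_uexp p)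
  have hx : ∀ x ∈ (co6 (uexp p)).list, ((x : ℤ) : F) = 0 := fun x hx =>
    (CharP.intCast_eq_zero_iff F p x).2 (co6_dvd hp x hx)
  simp only [Co.list, List.forall_mem_cons] at hx
  obtain ⟨hA, hB, hC', hD, hE, hG, hH, hI, hJ, hK, hL, hM, -⟩ := hx
  rw [el_pow, h0, hA, hB, hC', hD, hE, hG, hH, hI, hJ, hK, hL, hM]
  simp [G2Invol.el_zero]

end CfsgLib.Chev.G2Orders
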