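import Cfsg.Agent.Lib.Known.G2Orders.Frob
import Cfsg.Agent.Lib.Known.G2Orders.Unip

/-!
# Unipotent elements centralising a torus element, and all element orders of `G2`
-/

set_option autoImplicit false
set_option maxRecDepth 20000

namespace CfsgLib.Chev.G2Orders

open Cfsg.Lie CfsgLib.Chev.Table CfsgLib.Chev.OddInvol CfsgLib.Known.ChevSinger

universe u

local notation "hF" => (tabOK.facts)

theorem rot_flip : ∀ k : Fin 2,
    (wa (8 + k.val) 6 < 6 ∨ wa (8 + k.val) 10 < 6 ∨ wa (8 + k.val) 11 < 6) ∧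
    (wa (10 + k.val) 6 < 6 ∨ wa (10 + k.val) 7 < 6) := by decide +kernel

theorem wp_zero : wp 0 = 1 := rfl

/-- The pairs of roots in the monomials of the powers. -/
theorem pair_data : ∀ p ∈ [(7, 6), (7, 8), (7, 9), (8, 9)],
    dt p.1 p.2 = 1 ∨ dt p.1 p.2 = -1 := by decide +kernel

theorem long_data : dt 6 10 = -3 := by decide +kernel

variable {L : Type} [Field L]

theorem chi_neg (c : ℕ → Lˣ) {r : ℕ} (hr : r < 12) :
    chi chevG2 c (11 - r) = (chi chevG2 c r)⁻¹ := by
  rw [chi_val c (by omega : 11 - r < 12), chi_val c hr, val_neg hr]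

/-- A fixed Weyl element is trivial or flips a fixed root. -/
theorem exists_flip {c : ℕ → Lˣ} {k : ℕ} (hk : k < 12) (h0 : k ≠ 0)
    (hs : wp k ∈ stabFin chevG2 c) : ∃ r, 6 ≤ r ∧ r < 12 ∧ wa k r < 6 ∧ chi chevG2 c r = 1 := by
  rcases Nat.lt_or_ge k 8 with h8 | h8
  · obtain ⟨r, hr, e1, e2, h1⟩ := stab_invol h8 h0 hs
    rcases Nat.lt_or_ge r 6 with h6 | h6
    · exact ⟨11 - r, by omega, by omega, by rw [e2]; exact h6, by rw [chi_neg c hr, h1, inv_one]⟩
    · exact ⟨r, h6, hr, by rw [e1]; omega, h1⟩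
  rcases Nat.lt_or_ge k 10 with h10 | h10
  · obtain ⟨h6, h10'⟩ := stab_rot (by omega) hs
    have h := (rot_flip ⟨k - 8, by omega⟩).1
    simp only [show 8 + (k - 8) = k by omega] at h
    have h11 : chi chevG2 c 11 = 1 := by
      obtain ⟨c60, c61, -, -, c100, c101, c110, c111⟩ := coords
      have e := val_lin (a := chi chevG2 c 7) (b := chi chevG2 c 6) (r := 6) (s := 10) (t := 11)
        (i := 1) (j := 1) (fun x => by
          fin_cases x <;> simp [c60, c61, c100, c101, c110, c111])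
      rw [← chi_val c (by norm_num), ← chi_val c (by norm_num), ← chi_val c (by norm_num), h6, h10',
        one_zpow, one_mul] at e
      exact e
    rcases h with h | h | h
    exacts [⟨6, le_rfl, by norm_num, h, h6⟩, ⟨10, by norm_num, by norm_num, h, h10'⟩,
      ⟨11, by norm_num, by norm_num, h, h11⟩]
  · obtain ⟨h7, h6⟩ := stab_six (by omega) hs
    have h := (rot_flip ⟨k - 10, by omega⟩).2
    simp only [show 10 + (k - 10) = k by omega] at h
    rcases h with h | h
    exacts [⟨6, le_rfl, by norm_num, h, h6⟩, ⟨7, by norm_num, by norm_num, h, h7⟩]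

variable [Finite L] {p : ℕ} [CharP L p]

/-- Bounds for the fixed points of a torus element in the maximal unipotent subgroup. -/
theorem fixed_exponent (hp : p.Prime) {c : ℕ → Lˣ} (hc : hT chevG2 c ≠ 1) {g : GL chevG2.Idx L}
    (hg : g ∈ rootClosure chevG2 L (chevG2.nroots / 2 ≤ ·)) (hgc : Commute g (hT chevG2 c)) :
    (g = 1 ∨ ∃ r < 12, chi chevG2 c r = 1) ∧
      (g ^ p = 1 ∨ p = 2 ∧ g ^ 4 = 1 ∧ hT chevG2 c ^ 3 = 1) := by
  classical
  have n12 : chevG2.nroots = 12 := simples.2.2.2.1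
  obtain ⟨x, hx⟩ := (hF).exists_ordered (DataG2.commF) (k := chevG2.nroots / 2)
    (m := chevG2.nroots / 2) (by omega) le_rfl hg
  have hzero : ∀ r, 6 ≤ r → r < 12 → chi chevG2 c r ≠ 1 → x r = 0 := by
    intro r h1 h2 h3
    have e := conj_wU hF c (List.range' (chevG2.nroots / 2) (chevG2.nroots / 2))
      (fun y hy => by rw [List.mem_range'_1] at hy; omega) x
    rw [← hx, ← hgc.eq, mul_inv_cancel_right] at e
    have := (hF).ordered_unique (k := chevG2.nroots / 2) (m := chevG2.nroots / 2) (by omega) le_rfl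
      (hx.symm.trans e) r (by omega) (by omega)
    by_contra h0
    exact h3 (Units.ext ((mul_eq_right₀ h0).1 this.symm))
  refine ⟨?_, ?_⟩
  · by_cases h : ∃ r < 12, chi chevG2 c r = 1
    · exact Or.inr h
    · left
      rw [hx]
      refine List.prod_eq_one fun y hy => ?_
      simp only [List.map_map, List.mem_map, List.mem_range'_1, Function.comp_apply] at hy
      obtain ⟨r, hr, rfl⟩ := hy
      rw [hzero r (by omega) (by omega) fun e => h ⟨r, by omega, e⟩, (hF).xU_zero (by omega)]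
  have hel : g = G2Invol.el (x 6) (x 7) (x 8) (x 9) (x 10) (x 11) := by
    rw [hx, show chevG2.nroots / 2 = 6 by omega]; simp [wU, G2Invol.el, List.range']
  have hne : ¬ (chi chevG2 c 7 ^ 1 = 1 ∧ chi chevG2 c 6 ^ 1 = 1) := fun h =>
    hc (by simpa using (hT_pow_eq_one (n := 1)).2 h)
  have pair : ∀ q ∈ [(7, 6), (7, 8), (7, 9), (8, 9)], x q.1 * x q.2 = 0 := by
    intro q hq
    have hb : 6 ≤ q.1 ∧ q.1 < 12 ∧ 6 ≤ q.2 ∧ q.2 < 12 := by
      simp only [List.mem_cons, List.not_mem_nil, or_false] at hq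
      rcases hq with rfl | rfl | rfl | rfl <;> norm_num
    by_contra h
    rw [mul_eq_zero, not_or] at h
    have h1 : chi chevG2 c q.1 = 1 := not_not.1 fun e => h.1 (hzero _ hb.1 hb.2.1 e)
    have h2 : chi chevG2 c q.2 = 1 := not_not.1 fun e => h.2 (hzero _ hb.2.2.1 hb.2.2.2 e)
    rw [chi_val c hb.2.1] at h1
    rw [chi_val c hb.2.2.2] at h2
    obtain ⟨ha, hb'⟩ := val_basis (a := chi chevG2 c 7) (b := chi chevG2 c 6) (r := q.1) (s := q.2)
      (n := 1) (by rw [zpow_one]; exact h1) (by rw [zpow_one]; exact h2)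
    refine hne ?_
    rcases pair_data q hq with e | e <;> rw [e] at ha hb' <;>
      simp only [mul_one, zpow_one, zpow_neg, inv_eq_one] at ha hb' <;>
      exact ⟨by rw [pow_one]; exact ha, by rw [pow_one]; exact hb'⟩
  have p76 := pair (7, 6) (by simp)
  have p78 := pair (7, 8) (by simp)
  have p79 := pair (7, 9) (by simp)
  have p89 := pair (8, 9) (by simp)
  have hpow : ∀ n : ℕ, (n : L) = 0 →
      g ^ n = G2Invol.el 0 0 0 0 0 ((co6 n).J * (x 6 * x 10)) := by
    intro n hn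
    rw [hel, el_pow, hn]
    congr 1
    · simp
    · simp
    · linear_combination ((co6 n).A : L) * p76
    · linear_combination ((co6 n).B : L) * p78 + ((co6 n).C : L) * x 7 * p76
    · linear_combination ((co6 n).D : L) * p79 + ((co6 n).E : L) * x 7 * p78 +
        ((co6 n).G : L) * x 7 ^ 2 * p76
    · linear_combination ((co6 n).H : L) * p89 + ((co6 n).I : L) * x 8 * p78 +
        ((co6 n).K : L) * x 9 * p76 + ((co6 n).L : L) * x 7 * x 8 * p76 +
        ((co6 n).M : L) * x 6 * x 7 ^ 2 * p76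
  have hp0 : (p : L) = 0 := CharP.cast_eq_zero L p
  by_cases h610 : x 6 * x 10 = 0
  · left; rw [hpow p hp0, h610, mul_zero, G2Invol.el_zero]
  rw [mul_eq_zero, not_or] at h610
  by_cases h2 : p = 2
  · subst h2
    right
    refine ⟨rfl, ?_, ?_⟩
    · have h4 : ((4 : ℕ) : L) = 0 := (CharP.cast_eq_zero_iff L 2 4).2 (by norm_num)
      have hJ : (((co6 4).J : ℤ) : L) = 0 :=
        (CharP.intCast_eq_zero_iff L 2 _).2 (by decide +kernel)
      rw [hpow 4 h4, hJ, zero_mul, G2Invol.el_zero]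
    · have h6 : chi chevG2 c 6 = 1 := not_not.1 fun e => h610.1 (hzero _ le_rfl (by norm_num) e)
      have h10 : chi chevG2 c 10 = 1 :=
        not_not.1 fun e => h610.2 (hzero _ (by norm_num) (by norm_num) e)
      rw [chi_val c (by norm_num)] at h6 h10
      obtain ⟨ha, hb⟩ := val_basis (a := chi chevG2 c 7) (b := chi chevG2 c 6) (r := 6) (s := 10) (n := 1)
        (by rw [zpow_one]; exact h6) (by rw [zpow_one]; exact h10)
      rw [long_data, mul_one, zpow_neg, inv_eq_one] at ha hb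
      exact hT_pow_eq_one.2 ⟨by exact_mod_cast ha, by exact_mod_cast hb⟩
  · left
    have hJ : (((co6 p).J : ℤ) : L) = 0 := by
      refine (CharP.intCast_eq_zero_iff L p _).2 ?_
      have h := (co6_closed p).2.2.2.2.2.2.2.2.1
      obtain ⟨m, hm⟩ := hp.odd_of_ne_two h2
      refine ⟨-(m : ℤ), ?_⟩
      rw [hm] at h ⊢
      push_cast at h ⊢
      nlinarith [h]
    rw [hpow p hp0, hJ, zero_mul, G2Invol.el_zero]

/-- A unipotent element centralising a torus element is conjugate, inside the centraliser, to one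
in the maximal unipotent subgroup. -/
theorem exists_conj_pos (hp : p.Prime) {c : ℕ → Lˣ} {u : GL chevG2.Idx L} {e : ℕ}
    (hu : u ∈ chevG2.group L) (huc : Commute u (hT chevG2 c)) (hpow : u ^ p ^ e = 1) :
    ∃ y : GL chevG2.Idx L, Commute y (hT chevG2 c) ∧
      y * u * y⁻¹ ∈ rootClosure chevG2 L (chevG2.nroots / 2 ≤ ·) := by
  classical
  haveI := Fact.mk hp
  haveI := Fintype.ofFinite L
  obtain ⟨f, -, hq⟩ := FiniteField.card L p
  rw [← Nat.card_eq_fintype_card] at hq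
  set t : ↥(chevG2.group L) := ⟨hT chevG2 c, hT_mem_group hF c⟩
  set C := Subgroup.centralizer ({t} : Set ↥(chevG2.group L))
  set U := rootClosure chevG2 L (chevG2.nroots / 2 ≤ ·) ⊓
    Subgroup.centralizer ({hT chevG2 c} : Set (GL chevG2.Idx L))
  let P : Subgroup ↥C := U.comap ((chevG2.group L).subtype.comp C.subtype)
  have hUle : ∀ y ∈ U, ∃ hy : y ∈ chevG2.group L, (⟨y, hy⟩ : ↥(chevG2.group L)) ∈ C := fun y hy =>
    ⟨(hF).pos_le_group hy.1, Subgroup.mem_centralizer_singleton_iff.2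
      (Subtype.ext (Subgroup.mem_centralizer_singleton_iff.1 hy.2))⟩
  have hPU : Nat.card ↥P = Nat.card ↥U := by
    refine Nat.card_eq_of_bijective (fun y => (⟨_, y.2⟩ : ↥U)) ⟨fun a b h => ?_, fun y => ?_⟩
    · have := congrArg Subtype.val h
      exact Subtype.ext (Subtype.ext (Subtype.ext this))
    · obtain ⟨h1, h2⟩ := hUle y y.2
      exact ⟨⟨⟨⟨y, h1⟩, h2⟩, y.2⟩, rfl⟩
  rw [(card_fixed hF DataG2.commF c 1 ((hF).permAct_diagonal (Subgroup.one_mem _))).2] at hPU
  have hP : IsPGroup p ↥P := IsPGroup.of_card (n := (f : ℕ) * posT chevG2 c) (by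
    rw [hPU, hq, ← pow_mul])
  have hsum : Nat.Coprime p (∑ σ ∈ stabFin chevG2 c, Nat.card L ^ flipT c σ) := by
    have h1 : (1 : Equiv.Perm (Fin chevG2.nroots)) ∈ stabFin chevG2 c :=
      Finset.mem_filter.2 ⟨mem_wFin_rank.2 ⟨[], rfl⟩, fun r => rfl⟩
    rw [← Finset.sum_erase_add _ _ h1]
    have h0 : flipT c (1 : Equiv.Perm (Fin chevG2.nroots)) = 0 := by
      rw [flipT, Finset.card_eq_zero, Finset.filter_eq_empty_iff]
      rintro r - ⟨-, h, h'⟩
      rw [Equiv.Perm.one_apply] at h'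
      omega
    rw [h0, pow_zero]
    have hdvd : p ∣ ∑ σ ∈ (stabFin chevG2 c).erase 1, Nat.card L ^ flipT c σ := by
      refine Finset.dvd_sum fun σ hσ => ?_
      rw [Finset.mem_erase] at hσ
      obtain ⟨k, hk, rfl⟩ := mem_wFin_iff.1 (Finset.mem_filter.1 hσ.2).1
      have h0' : k ≠ 0 := fun e => hσ.1 (by rw [e, wp_zero])
      obtain ⟨r, h6, h12, hflip, hchi⟩ := exists_flip hk h0' hσ.2
      have n12 : chevG2.nroots = 12 := simples.2.2.2.1
      refine dvd_pow (hq ▸ dvd_pow_self p f.ne_zero) (Finset.card_ne_zero.2 ⟨⟨r, by omega⟩, ?_⟩)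
      simp only [Finset.mem_filter, Finset.mem_univ, true_and, n12, wp_val hk]
      exact ⟨hchi, h6, hflip⟩
    rw [hp.coprime_iff_not_dvd, Nat.dvd_add_right hdvd]
    exact fun h => hp.not_dvd_one h
  have hker : Nat.Coprime p (Nat.card ↥(chevG2.diagonalSubgroup L)) := by
    refine Nat.Coprime.coprime_dvd_right ⟨_, ((hF).card_diagonal (F := L)).symm⟩
      (Nat.Coprime.pow_right _ ?_)
    refine Nat.Coprime.coprime_dvd_left (hq ▸ dvd_pow_self p f.ne_zero) ?_
    exact ((Nat.coprime_self_sub_left Nat.card_pos).2 (Nat.coprime_one_left _)).symm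
  have hC : Nat.card ↥C = Nat.card ↥P * (Nat.card ↥(chevG2.diagonalSubgroup L) *
      ∑ σ ∈ stabFin chevG2 c, Nat.card L ^ flipT c σ) := by
    rw [hPU, ← mul_assoc]
    exact card_centralizer hF DataG2.commF c
  have hidx : ¬ p ∣ P.index := by
    rw [Nat.eq_of_mul_eq_mul_left Nat.card_pos ((P.card_mul_index).trans hC)]
    exact hp.coprime_iff_not_dvd.1 (hker.mul_right hsum)
  let uC : ↥C := ⟨⟨u, hu⟩, Subgroup.mem_centralizer_singleton_iff.2 (Subtype.ext huc)⟩
  obtain ⟨Q, hQ⟩ := (isPGroup_zpowers_of_pow (x := uC) (e := e)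
    (Subtype.ext (Subtype.ext (by simpa [uC] using hpow)))).exists_le_sylow
  obtain ⟨y, hy⟩ := MulAction.exists_smul_eq ↥C Q (hP.toSylow hidx)
  have hm : y * uC * y⁻¹ ∈ P := by
    have h := Subgroup.smul_mem_pointwise_smul uC (MulAut.conj y) Q.toSubgroup
      (hQ (Subgroup.mem_zpowers uC))
    rw [← Sylow.coe_subgroup_smul] at h
    change _ ∈ (y • Q : Sylow p ↥C) at h
    rw [hy] at h
    exact h
  refine ⟨((y : ↥(chevG2.group L)) : GL chevG2.Idx L), ?_, hm.1⟩
  exact congrArg Subtype.val (Subgroup.mem_centralizer_singleton_iff.1 y.2)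
where
  isPGroup_zpowers_of_pow {G : Type} [Group G] {x : G} {e : ℕ} (h : x ^ p ^ e = 1) :
      IsPGroup p ↥(Subgroup.zpowers x) := by
    rintro ⟨y, hy⟩
    obtain ⟨i, rfl⟩ := Subgroup.mem_zpowers_iff.1 hy
    refine ⟨e, Subtype.ext ?_⟩
    push_cast
    rw [← zpow_natCast, zpow_comm, zpow_natCast, h, one_zpow]

/-- The element orders. -/
theorem order_cases {F : Type u} [Field F] [Finite F] [CharP F p] (hp : p.Prime)
    {x : GL chevG2.Idx F} (hx : x ∈ chevG2.group F) :
    orderOf x ∣ uexp p ∨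
      (∃ n ∈ [Nat.card F - 1, Nat.card F + 1, Nat.card F ^ 2 - 1,
        Nat.card F ^ 2 + Nat.card F + 1, Nat.card F ^ 2 - Nat.card F + 1], orderOf x ∣ n) ∨
      (∃ n ∈ [Nat.card F - 1, Nat.card F + 1, 2, 3],
        orderOf x ∣ p * n) ∨
      p = 2 ∧ orderOf x ∣ 12 := by
  classical
  have hfin : 0 < orderOf x := orderOf_pos_iff.2 (isOfFinOrder_of_finite x)
  obtain ⟨e, m, hm, hn⟩ := Nat.exists_eq_pow_mul_and_not_dvd hfin.ne' p hp.ne_one
  have hN : (m : F) ≠ 0 := fun h => hm ((CharP.cast_eq_zero_iff F p m).1 h)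
  have h1 : (x ^ p ^ e) ^ m = 1 := by rw [← pow_mul, ← hn, pow_orderOf_eq_one]
  obtain ⟨L, iL, iF, ι, z, hz, c, k, hk, hzc, hfrob⟩ :=
    exists_frob (Subgroup.pow_mem _ hx _) h1 hN
  haveI : CharP L p := charP_of_injective_ringHom ι.injective p
  set u := z * extG chevG2 ι (x ^ m) * z⁻¹
  have huc : Commute u (hT chevG2 c) := by
    rw [← hzc]
    exact ((Commute.pow_pow_self x m (p ^ e)).map (extG chevG2 ι)).map (MulAut.conj z).toMonoidHom
  have hext : ∀ y : GL chevG2.Idx F, extG chevG2 ι y = 1 → y = 1 := fun y hy =>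
    extG_injective ι (hy.trans (map_one _).symm)
  have hconj : ∀ (y g : GL chevG2.Idx L) (n : ℕ), (y * g * y⁻¹) ^ n = 1 → g ^ n = 1 := by
    intro y g n h
    rw [conj_pow] at h
    exact mul_left_cancel (a := y) (by rw [mul_one]; exact mul_inv_eq_one.1 h)
  have hxm : ∀ n, (x ^ m) ^ n = 1 → p ^ e ∣ n := fun n h => by
    rw [← pow_mul] at h
    have := orderOf_dvd_of_pow_eq_one h
    rw [hn] at this
    have hmpos : 0 < m := Nat.pos_of_ne_zero fun h0 => hm (by rw [h0]; exact dvd_zero p)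
    rw [mul_comm (p ^ e) m] at this
    exact Nat.dvd_of_mul_dvd_mul_left hmpos this
  have hxe : ∀ n, hT chevG2 c ^ n = 1 → m ∣ n := fun n h => by
    have h2 := hext _ (by rw [map_pow]; exact hconj z _ n (by rw [hzc]; exact h))
    rw [← pow_mul] at h2
    have := orderOf_dvd_of_pow_eq_one h2
    rw [hn] at this
    exact Nat.dvd_of_mul_dvd_mul_left (pow_pos hp.pos e) this
  obtain ⟨y, hyc, hy⟩ := exists_conj_pos (e := e) hp
    (Subgroup.mul_mem _ (Subgroup.mul_mem _ hz (extG_mem_group ι hF (Subgroup.pow_mem _ hx _)))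
      (Subgroup.inv_mem _ hz)) huc
    (by rw [conj_pow, ← map_pow, ← pow_mul, mul_comm, ← hn, pow_orderOf_eq_one, map_one, mul_one,
      mul_inv_cancel])
  have hu_pow : ∀ n, (y * u * y⁻¹) ^ n = 1 → p ^ e ∣ n := fun n h =>
    hxm n (hext _ (by rw [map_pow]; exact hconj z _ n (hconj y _ n h)))
  rcases eq_or_ne (hT chevG2 c) 1 with ht | ht
  · left
    have m1 : m = 1 := Nat.eq_one_of_dvd_one (hxe 1 (by rw [pow_one]; exact ht))
    rw [hn, m1, mul_one]
    exact hu_pow _ (pow_uexp hp hy)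
  have hcy : Commute (y * u * y⁻¹) (hT chevG2 c) :=
    (hyc.mul_left huc).mul_left hyc.inv_left
  obtain ⟨htriv, hexp⟩ := fixed_exponent hp ht hy hcy
  by_cases hr : ∃ r < 12, chi chevG2 c r = 1
  · obtain ⟨r, hr, hr1⟩ := hr
    rw [chi_val c hr] at hr1
    obtain ⟨n, hn', ha, hb⟩ := exponent_cases_root hk Finite.one_lt_card hfrob hr hr1
    rcases hexp with hexp | ⟨h2, h4, h3⟩
    · refine Or.inr (Or.inr (Or.inl ⟨n, hn', ?_⟩))
      rw [hn]
      exact Nat.mul_dvd_mul (hu_pow _ hexp) (hxe n (hT_pow_eq_one.2 ⟨ha, hb⟩))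
    · refine Or.inr (Or.inr (Or.inr ⟨h2, ?_⟩))
      rw [hn, show 12 = 4 * 3 from rfl]
      exact Nat.mul_dvd_mul (hu_pow _ h4) (hxe 3 h3)
  · obtain ⟨n, hn', ha, hb⟩ := exponent_cases hk Finite.one_lt_card hfrob
    have h0 : p ^ e ∣ 1 := hu_pow 1 (by rw [pow_one]; exact htriv.resolve_right hr)
    refine Or.inr (Or.inl ⟨n, hn', ?_⟩)
    rw [hn, Nat.eq_one_of_dvd_one h0, one_mul]
    exact hxe n (hT_pow_eq_one.2 ⟨ha, hb⟩)

end CfsgLib.Chev.G2Orders
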