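import Cfsg.Agent.Lib.Known.G2Orders.Diag

/-!
# Monomial elements rotating the long roots
-/

set_option autoImplicit false
set_option maxRecDepth 8000

namespace CfsgLib.Chev.G2Orders

open Cfsg.Lie CfsgLib.Chev.Table CfsgLib.Chev.OddInvol CfsgLib.Known.ChevSinger
open CfsgLib.Known

local notation "hF" => (tabOK.facts)

variable {K : Type} [Field K] [Finite K]

theorem idx_coords : ∀ i j : Fin 3, i ≠ j → ∃ a b : Fin 5,
    ∀ x : Fin 2, cr (G2Singer.idx i j) x.val =
      ((a.val : ℤ) - 2) * cr 6 x.val + ((b.val : ℤ) - 2) * cr 10 x.val := by decide +kernel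

theorem psi_commute {c : ℕ → Kˣ} (h6 : chi chevG2 c 6 = 1) (h10 : chi chevG2 c 10 = 1)
    (S : Matrix.SpecialLinearGroup (Fin 3) K) : Commute (G2Singer.psi S) (hT chevG2 c) := by
  have hle : (Subgroup.centralizer ({hT chevG2 c} : Set (GL chevG2.Idx K))).comap G2Singer.psi = ⊤ :=
    CfsgLib.Classical.SL_le_of_transvections _ fun i j hij a => by
      have hlt : G2Singer.idx i j < chevG2.nroots := G2Singer.idx_lt i j
      have hch : chi chevG2 c (G2Singer.idx i j) = 1 := by
        obtain ⟨x, y, hxy⟩ := idx_coords i j hij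
        have hn := simples.2.2.2.1
        obtain ⟨c60, c61, -, -, c100, c101, -, -⟩ := coords
        have h70 : chi chevG2 c 7 ^ (3 : ℤ) = 1 := by
          rwa [chi_coords c (by norm_num : 10 < 12), c100, c101, h6, one_zpow, mul_one] at h10
        rw [chi_coords c (by omega : G2Singer.idx i j < 12), h6, one_zpow, mul_one,
          show cr (G2Singer.idx i j) 0 = _ from hxy 0]
        simp only [Fin.val_zero, c60, c100, mul_zero, zero_add, mul_comm _ (3 : ℤ), zpow_mul, h70,
          one_zpow]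
      rw [Subgroup.mem_comap, G2Singer.psi_transvection, Subgroup.mem_centralizer_singleton_iff]
      have := conj_hT_xU hF c hlt a
      rw [hch, Units.val_one, one_mul, mul_inv_eq_iff_eq_mul] at this
      exact this.symm
  have := Subgroup.mem_top S
  rw [← hle, Subgroup.mem_comap, Subgroup.mem_centralizer_singleton_iff] at this
  exact this

omit [Finite K] in
/-- A monomial matrix of determinant one inducing a three-cycle is diagonalisable given a primitive
cube root of unity. -/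
theorem diag_cycle {x y z w : K} (hxyz : x * y * z = 1) (hw : w ^ 3 = 1) (hw1 : w ≠ 1)
    (h3 : (3 : K) ≠ 0) (M : Matrix.SpecialLinearGroup (Fin 3) K)
    (hM : (M : Matrix (Fin 3) (Fin 3) K) = !![0, 0, x; y, 0, 0; 0, z, 0]) :
    ∃ V : Matrix.SpecialLinearGroup (Fin 3) K,
      (M : Matrix (Fin 3) (Fin 3) K) * V = V * Matrix.diagonal ![1, w, w ^ 2] := by
  have hx : x ≠ 0 := fun e => by simp [e] at hxyz
  have hy : y ≠ 0 := fun e => by simp [e] at hxyz
  have hw0 : w ≠ 0 := fun e => by simp [e] at hw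
  have hsum : w ^ 2 + w + 1 = 0 := by
    have h : (w - 1) * (w ^ 2 + w + 1) = 0 := by linear_combination hw
    exact (mul_eq_zero.1 h).resolve_left (sub_ne_zero.2 hw1)
  have hd : 2 * w + 1 ≠ 0 := fun e => h3 (by linear_combination 4 * hsum - (2 * w + 1) * e)
  set δ := ((3 : K) * y * (2 * w + 1) / x) with hδ
  have hδ0 : δ ≠ 0 := div_ne_zero (mul_ne_zero (mul_ne_zero h3 hy) hd) hx
  refine ⟨⟨!![δ⁻¹, 1, 1; δ⁻¹ * y, y * w ^ 2, y * w; δ⁻¹ / x, w / x, w ^ 2 / x], ?_⟩, ?_⟩
  · rw [Matrix.det_fin_three]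
    simp only [Matrix.of_apply, Matrix.cons_val', Matrix.cons_val_zero, Matrix.cons_val_one,
      Matrix.cons_val_two, Matrix.empty_val', Matrix.cons_val_fin_one, Matrix.head_cons,
      Matrix.tail_cons, Matrix.head_fin_const]
    have e : δ * δ⁻¹ = 1 := mul_inv_cancel₀ hδ0
    field_simp
    rw [hδ]
    field_simp
    grind
  · rw [hM]
    ext p q
    fin_cases p <;> fin_cases q <;>
      simp [Matrix.mul_apply, Fin.sum_univ_three, Matrix.diagonal] <;>
      field_simp <;> grind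

theorem psi_cycle :
    ∃ P : Matrix.SpecialLinearGroup (Fin 3) K,
      (P : Matrix (Fin 3) (Fin 3) K) = !![0, 0, 1; -1, 0, 0; 0, -1, 0] ∧
      G2Singer.psi P ∈ chevG2.monomialSubgroup K ∧ PermAct (G2Singer.psi P) (wp 9) := by
  refine ⟨G2Singer.wEl (show (0 : Fin 3) ≠ 1 by decide) 1 *
    G2Singer.wEl (show (1 : Fin 3) ≠ 2 by decide) 1, ?_, ?_⟩
  · simp only [G2Singer.wEl, Matrix.SpecialLinearGroup.coe_mul]
    show (Matrix.transvection 0 1 (1 : K) * Matrix.transvection 1 0 (-1⁻¹) * Matrix.transvection 0 1 1) *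
      (Matrix.transvection 1 2 (1 : K) * Matrix.transvection 2 1 (-1⁻¹) * Matrix.transvection 1 2 1) = _
    ext p q
    fin_cases p <;> fin_cases q <;>
      simp [Matrix.transvection, Matrix.mul_apply, Fin.sum_univ_three]
  · have h6 : (6 : ℕ) < chevG2.nroots := by decide +kernel
    have h10 : (10 : ℕ) < chevG2.nroots := by decide +kernel
    rw [map_mul, G2Singer.psi_wEl, G2Singer.psi_wEl, show G2Singer.idx 0 1 = 6 by decide,
      show G2Singer.idx 1 2 = 10 by decide]
    obtain ⟨s, hs, -⟩ := (hF).exists_reflection (F := K) h6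
    obtain ⟨t, ht, -⟩ := (hF).exists_reflection (F := K) h10
    have h12 : ∀ x : Fin chevG2.nroots, x.val < 12 := fun x => lt_of_lt_of_eq x.isLt simples.2.2.2.1
    have es : s = wp 2 := perm_ext fun x j => by
      rw [refl_eq_wp h6 (hs 1 one_ne_zero), wp_val (by norm_num : 2 < 12)]
      exact (refl_words ⟨x.val, h12 x⟩ j).1.symm
    have et : t = wp 3 := perm_ext fun x j => by
      rw [refl_eq_wp h10 (ht 1 one_ne_zero), wp_val (by norm_num : 3 < 12)]
      exact (refl_words ⟨x.val, h12 x⟩ j).2.symm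
    have e : s * t = wp 9 := Equiv.ext fun x => Fin.ext (by
      rw [Equiv.Perm.mul_apply, es, et, wp_val (by norm_num : 2 < 12), wp_val (by norm_num : 3 < 12),
        wp_val (by norm_num : 9 < 12)]
      exact rot_words.1 ⟨x.val, h12 x⟩)
    exact ⟨Subgroup.mul_mem _ ((hF).nU_mem_monomial h6) ((hF).nU_mem_monomial h10),
      e ▸ (hF).permAct_mul (hs 1 one_ne_zero) (ht 1 one_ne_zero)⟩

theorem good_nine (c : ℕ → Kˣ) {m : GL chevG2.Idx K} (hm : m ∈ chevG2.monomialSubgroup K)
    (hσ : PermAct m (wp 9)) (hcm : Commute m (hT chevG2 c)) {w : K} (hw : w ^ 3 = 1) (hw1 : w ≠ 1)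
    (h3 : (3 : K) ≠ 0) : Good K c m := by
  obtain ⟨h6, h10⟩ := stab_rot (Or.inr rfl) (mem_stab hm hσ hcm)
  obtain ⟨P, hP, hPm, hPσ⟩ := psi_cycle (K := K)
  have hd : m * (G2Singer.psi P)⁻¹ ∈ chevG2.diagonalSubgroup K := by
    refine (hF).mem_diagonal_of_permAct (Subgroup.mul_mem _ hm (Subgroup.inv_mem _ hPm)) ?_
    simpa using (hF).permAct_mul hσ ((hF).permAct_inv hPm hPσ)
  obtain ⟨d, hd⟩ := (hF).mem_diagonal_iff.1 hd
  set a := chi chevG2 d 8
  set b := chi chevG2 d 7 * chi chevG2 d 8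
  have he : G2Singer.psi (G2Singer.dEl (a : K) (b : K)) = hT chevG2 d := by
    obtain ⟨c', hc'⟩ := (hF).mem_diagonal_iff.1 (G2Singer.psi_dEl_diagonal a b)
    rw [hc']
    rw [G2Singer.psi_dEl] at hc'
    have key : ∀ q : Fin chevG2.nroots, chi chevG2 c' q.val =
        prChar chevG2 6 a q.val * prChar chevG2 10 b q.val := fun q => by
      have e := congrArg (fun g : GL chevG2.Idx K => (g : Matrix chevG2.Idx chevG2.Idx K)
        (Sum.inr q) (Sum.inr q)) hc'
      simp only [hT, dU_val, diagC, Matrix.diagonal_apply_eq, Sum.elim_inr] at e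
      exact Units.ext e.symm
    refine hT_ext' tabOK fun q hq => ?_
    obtain ⟨s0, s1, hr2, hn, -⟩ := simples
    have e6 : prE chevG2 6 7 = -1 ∧ prE chevG2 10 7 = 1 ∧ prE chevG2 6 6 = 2 ∧ prE chevG2 10 6 = -1 ∧
        cr 8 0 = 1 ∧ cr 8 1 = 1 := by
      decide +kernel
    obtain rfl | rfl : q = 0 ∨ q = 1 := by omega
    · rw [s0, key ⟨7, by omega⟩, prChar, prChar, e6.1, e6.2.1, zpow_one, zpow_neg_one]
      simp [a, b, mul_comm, mul_left_comm]
    · rw [s1, key ⟨6, by omega⟩, prChar, prChar, e6.2.2.1, e6.2.2.2.1, zpow_two, zpow_neg_one]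
      simp only [a, b, chi_coords d (by norm_num : 8 < 12), e6.2.2.2.2.1, e6.2.2.2.2.2, zpow_one]
      apply Units.ext
      push_cast
      field_simp
  set M := G2Singer.dEl (a : K) (b : K) * P
  have hmM : m = G2Singer.psi M := by
    rw [map_mul, he, ← hd, inv_mul_cancel_right]
  obtain ⟨V, hV⟩ := diag_cycle (x := (a : K)) (y := -((a : K)⁻¹ * b)) (z := -(b : K)⁻¹) (w := w)
    (by field_simp) hw hw1 h3 M (by
      rw [Matrix.SpecialLinearGroup.coe_mul, G2Singer.dEl_val a.ne_zero b.ne_zero, hP]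
      ext p q
      fin_cases p <;> fin_cases q <;> simp [Matrix.mul_apply, Fin.sum_univ_three, Matrix.diagonal])
  have hw0 : w ≠ 0 := fun e => by simp [e] at hw
  have hV2 : M * V = V * G2Singer.dEl (1 : K) w := by
    refine Subtype.ext ?_
    rw [Matrix.SpecialLinearGroup.coe_mul M V, Matrix.SpecialLinearGroup.coe_mul V, hV,
      G2Singer.dEl_val one_ne_zero hw0]
    congr 2
    have : w⁻¹ = w ^ 2 := inv_eq_of_mul_eq_one_right (by rw [← hw]; ring)
    funext i
    fin_cases i <;> simp [this]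
  refine Good.of_diag (z := (G2Singer.psi V)⁻¹) (Subgroup.inv_mem _ (G2Singer.psi_mem V))
    (psi_commute h6 h10 V).inv_left ?_
  rw [hmM, inv_inv, ← map_inv, ← map_mul, ← map_mul, mul_assoc, hV2, inv_mul_cancel_left]
  exact G2Singer.psi_dEl_diagonal 1 (Units.mk0 w hw0)

theorem good_rot {k : ℕ} (hk : k = 8 ∨ k = 9) (c : ℕ → Kˣ) {m : GL chevG2.Idx K}
    (hm : m ∈ chevG2.monomialSubgroup K) (hσ : PermAct m (wp k)) (hcm : Commute m (hT chevG2 c))
    {w : K} (hw : w ^ 3 = 1) (hw1 : w ≠ 1) (h3 : (3 : K) ≠ 0) : Good K c m := by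
  rcases hk with rfl | rfl
  · have e : (wp 8)⁻¹ = wp 9 := inv_eq_of_mul_eq_one_right (Equiv.ext fun x => Fin.ext (by
      rw [Equiv.Perm.mul_apply, wp_val (by norm_num : 8 < 12), wp_val (by norm_num : 9 < 12)]
      exact rot_words.2.1 ⟨x.val, lt_of_lt_of_eq x.isLt simples.2.2.2.1⟩))
    obtain ⟨L, i1, i2, ι, z, h1, h2, h3'⟩ := good_nine c (Subgroup.inv_mem _ hm)
      (e ▸ (hF).permAct_inv hm hσ) hcm.inv_left hw hw1 h3
    refine ⟨L, i1, i2, ι, z, h1, h2, ?_⟩
    have := Subgroup.inv_mem _ h3'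
    rw [map_inv] at this
    simpa [mul_assoc] using this
  · exact good_nine c hm hσ hcm hw hw1 h3

end CfsgLib.Chev.G2Orders
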