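import Cfsg.Agent.Lib.Known.G2Orders.Rot

/-!
# Diagonalising elements of order prime to the characteristic

Elements of prime power order commuting with a torus element are conjugate in its centraliser to
monomial ones by a Sylow argument; induction on the order gives the general case.
-/

set_option autoImplicit false
set_option maxRecDepth 8000

namespace CfsgLib.Chev.G2Orders

open Cfsg.Lie CfsgLib.Chev.Table CfsgLib.Chev.OddInvol CfsgLib.Known.ChevSinger

universe u

local notation "hF" => (tabOK.facts)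

variable {K : Type} [Field K] [Finite K]

omit [Finite K] in
theorem wFin_card : (wFin chevG2 chevG2.rank).card = 12 := DataG2.weyl_poincare.2

theorem good_mono {r k : ℕ} (hr : r.Prime) (hrK : (r : K) ≠ 0) (hQ : r ^ 4 ∣ Nat.card K - 1)
    (c : ℕ → Kˣ) {m : GL chevG2.Idx K} (hm : m ∈ chevG2.monomialSubgroup K)
    (hcm : Commute m (hT chevG2 c)) (hpow : m ^ r ^ k = 1) : Good K c m := by
  classical
  obtain ⟨σ, hσ⟩ := (hF).exists_permAct hm
  obtain ⟨j, hj, rfl⟩ := mem_wFin_iff.1 (Finset.filter_subset _ _ (mem_stab hm hσ hcm))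
  have hk0 : ((r ^ k : ℕ) : K) ≠ 0 := by rw [Nat.cast_pow]; exact pow_ne_zero _ hrK
  rcases Nat.lt_or_ge j 8 with h8 | h8
  · exact good_invol j h8 K c m _ hm hσ hcm hpow hk0
  have hn : chevG2.nroots = 12 := simples.2.2.2.1
  have hap : ∀ i : ℕ, PermAct (m ^ i) (wp j ^ i) := by
    intro i
    induction i with
    | zero =>
      rw [pow_zero, pow_zero]
      exact (hF).permAct_diagonal (Subgroup.one_mem _)
    | succ i ih => rw [pow_succ, pow_succ]; exact (hF).permAct_mul ih hσ
  have hw1 : wp j ^ r ^ k = 1 := (hF).permAct_unique (hap _)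
    (by rw [hpow]; exact (hF).permAct_diagonal (Subgroup.one_mem _))
  have hord : orderOf (wp j) ∣ r ^ k := orderOf_dvd_of_pow_eq_one hw1
  obtain ⟨i, -, hi⟩ := (Nat.dvd_prime_pow hr).1 hord
  have hv : ∀ (s : Fin chevG2.nroots), (wp j s).val = wa j s.val := fun s => wp_val hj s
  rcases Nat.lt_or_ge j 10 with h10 | h10
  · have h3 : r = 3 := by
      have he : wp j ^ 3 = 1 := Equiv.ext fun x => Fin.ext (by
        rw [pow_succ, pow_succ, pow_one, Equiv.Perm.mul_apply, Equiv.Perm.mul_apply, hv, hv, hv]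
        have := rot_order ⟨j - 8, by omega⟩ ⟨x.val, lt_of_lt_of_eq x.isLt hn⟩
        simp only [show 8 + (j - 8) = j by omega] at this
        exact this)
      have h1 : wp j ≠ 1 := fun e => by
        have h := congrArg (fun σ => (σ ⟨7, by omega⟩ : Fin chevG2.nroots).val) e
        simp only [hv, Equiv.Perm.one_apply] at h
        have := fix_small ⟨j, hj⟩ ⟨7, by norm_num⟩ h
        simp only at this
        omega
      have := orderOf_eq_prime (p := 3) (by simpa using he) h1
      rw [this] at hi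
      have h3' : 3 ∣ r ^ i := hi ▸ dvd_refl 3
      exact ((Nat.prime_dvd_prime_iff_eq Nat.prime_three hr).1 (Nat.prime_three.dvd_of_dvd_pow h3')).symm
    subst h3
    haveI := Fintype.ofFinite K
    obtain ⟨w, hw⟩ := exists_prime_orderOf_dvd_card (G := Kˣ) 3
      (by
        rw [← Nat.card_eq_fintype_card, Nat.card_units]
        exact (dvd_pow_self 3 (by norm_num : (4 : ℕ) ≠ 0)).trans hQ)
    exact good_rot (by omega) c hm hσ hcm (w := (w : K))
      (by rw [← Units.val_pow_eq_pow_val, ← hw, pow_orderOf_eq_one, Units.val_one])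
      (fun e => by
        rw [show w = 1 from Units.ext e, orderOf_one] at hw
        omega) hrK
  · exfalso
    have h6 := six_order ⟨j - 10, by omega⟩
    simp only [show 10 + (j - 10) = j by omega] at h6
    have he : wp j ^ 6 = 1 := Equiv.ext fun x => Fin.ext (by
      simp only [pow_succ, pow_zero, one_mul, Equiv.Perm.mul_apply, hv, Equiv.Perm.one_apply]
      exact h6.2.2 ⟨x.val, lt_of_lt_of_eq x.isLt hn⟩)
    have h2 : wp j ^ 2 ≠ 1 := fun e => by
      have := congrArg (fun σ => (σ ⟨7, by omega⟩ : Fin chevG2.nroots).val) e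
      simp only [pow_succ, pow_zero, one_mul, Equiv.Perm.mul_apply, hv, Equiv.Perm.one_apply] at this
      exact h6.1 this
    have h3 : wp j ^ 3 ≠ 1 := fun e => by
      have := congrArg (fun σ => (σ ⟨7, by omega⟩ : Fin chevG2.nroots).val) e
      simp only [pow_succ, pow_zero, one_mul, Equiv.Perm.mul_apply, hv, Equiv.Perm.one_apply] at this
      exact h6.2.1 this
    have hd := orderOf_dvd_of_pow_eq_one he
    have hne2 : ¬ orderOf (wp j) ∣ 2 := fun h => h2 (orderOf_dvd_iff_pow_eq_one.1 h)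
    have hne3 : ¬ orderOf (wp j) ∣ 3 := fun h => h3 (orderOf_dvd_iff_pow_eq_one.1 h)
    have hle := Nat.le_of_dvd (by norm_num) hd
    have h66 : orderOf (wp j) = 6 := by
      interval_cases orderOf (wp j) <;> omega
    rw [h66] at hi
    have e2 : (2 : ℕ) ∣ r ^ i := hi ▸ (by norm_num)
    have e3 : (3 : ℕ) ∣ r ^ i := hi ▸ (by norm_num)
    have := (Nat.prime_dvd_prime_iff_eq Nat.prime_two hr).1 (Nat.prime_two.dvd_of_dvd_pow e2)
    have := (Nat.prime_dvd_prime_iff_eq Nat.prime_three hr).1 (Nat.prime_three.dvd_of_dvd_pow e3)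
    omega

theorem good_big {r k : ℕ} (hr : r.Prime) (hrK : (r : K) ≠ 0) (hQ : r ^ 4 ∣ Nat.card K - 1)
    (c : ℕ → Kˣ) {g : GL chevG2.Idx K} (hg : g ∈ chevG2.group K)
    (hgc : Commute g (hT chevG2 c)) (hpow : g ^ r ^ k = 1) : Good K c g := by
  classical
  haveI : Fact r.Prime := ⟨hr⟩
  set t : ↥(chevG2.group K) := ⟨hT chevG2 c, hT_mem_group hF c⟩
  set Z := Subgroup.centralizer ({t} : Set ↥(chevG2.group K))
  set Nm := ((chevG2.monomialSubgroup K).subgroupOf (chevG2.group K)).subgroupOf Z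
  set S := ∑ σ ∈ stabFin chevG2 c, Nat.card K ^ flipT c σ
  set s := (stabFin chevG2 c).card
  have hZ : Nat.card ↥Z = Nat.card K ^ posT chevG2 c * Nat.card ↥(chevG2.diagonalSubgroup K) * S :=
    card_centralizer hF good_G2.comm c
  have hs0 : 0 < s := Finset.card_pos.2 ⟨1, Finset.mem_filter.2
    ⟨mem_wFin_rank.2 ⟨[], sW_nil.symm⟩, fun _ => rfl⟩⟩
  have hs12 : s ≤ 12 := wFin_card ▸ Finset.card_filter_le _ _
  -- the monomial part
  have hN : Nat.card ↥(chevG2.diagonalSubgroup K) * s ∣ Nat.card ↥Nm := by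
    have hw : ∀ σ : {σ // σ ∈ stabFin chevG2 c}, ∃ l, σ.1 = sW chevG2 l := fun σ =>
      mem_wFin_rank.1 (Finset.mem_filter.1 σ.2).1
    choose w hw using hw
    have hact : ∀ σ, PermAct (nW chevG2 K (w σ)) σ.1 := fun σ => by
      rw [hw σ]; exact (hF).permAct_nW _
    have hmem : ∀ (σ : {σ // σ ∈ stabFin chevG2 c}) (d : ↥(chevG2.diagonalSubgroup K)),
        (d : GL chevG2.Idx K) * nW chevG2 K (w σ) ∈ chevG2.monomialSubgroup K ∧
          Commute ((d : GL chevG2.Idx K) * nW chevG2 K (w σ)) (hT chevG2 c) := fun σ d => by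
      refine ⟨Subgroup.mul_mem _ (Subgroup.mem_sup_left d.2) ((hF).nW_mem _), ?_⟩
      obtain ⟨a, ha⟩ := (hF).mem_diagonal_iff.1 d.2
      refine Commute.mul_left ?_ (commute_of_stab hF c ((hF).nW_mem _) (hact σ)
        (Finset.mem_filter.1 σ.2).2)
      rw [ha]
      exact dU_commute _ _
    have hb : Function.Bijective (fun p : {σ // σ ∈ stabFin chevG2 c} × ↥(chevG2.diagonalSubgroup K) =>
        (⟨⟨⟨_, (hF).monomial_le_group (hmem p.1 p.2).1⟩,
            Subgroup.mem_centralizer_singleton_iff.2 (Subtype.ext (hmem p.1 p.2).2)⟩,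
          Subgroup.mem_subgroupOf.2 (Subgroup.mem_subgroupOf.2 (hmem p.1 p.2).1)⟩ : ↥Nm)) := by
      refine ⟨?_, fun y => ?_⟩
      · rintro ⟨σ, d⟩ ⟨τ, d'⟩ e
        have e' : (d : GL chevG2.Idx K) * nW chevG2 K (w σ) = d' * nW chevG2 K (w τ) :=
          congrArg (fun y : ↥Nm => (((y : ↥Z) : ↥(chevG2.group K)) : GL chevG2.Idx K)) e
        have h1 := (hF).permAct_mul ((hF).permAct_diagonal d.2) (hact σ)
        have h2 := (hF).permAct_mul ((hF).permAct_diagonal d'.2) (hact τ)
        rw [e'] at h1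
        have h3 := (hF).permAct_unique h1 h2
        rw [one_mul, one_mul] at h3
        obtain rfl := Subtype.ext h3
        rw [mul_left_inj] at e'
        obtain rfl := Subtype.ext e'
        rfl
      · have hy : (((y : ↥Z) : ↥(chevG2.group K)) : GL chevG2.Idx K) ∈ chevG2.monomialSubgroup K :=
          Subgroup.mem_subgroupOf.1 (Subgroup.mem_subgroupOf.1 y.2)
        have hyc : Commute (((y : ↥Z) : ↥(chevG2.group K)) : GL chevG2.Idx K) (hT chevG2 c) :=
          congrArg Subtype.val (Subgroup.mem_centralizer_singleton_iff.1 (y : ↥Z).2)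
        obtain ⟨σ, hσ⟩ := (hF).exists_permAct hy
        set v : {σ // σ ∈ stabFin chevG2 c} := ⟨σ, mem_stab hy hσ hyc⟩
        have hd : (((y : ↥Z) : ↥(chevG2.group K)) : GL chevG2.Idx K) * (nW chevG2 K (w v))⁻¹ ∈
            chevG2.diagonalSubgroup K := by
          refine (hF).mem_diagonal_of_permAct
            (Subgroup.mul_mem _ hy (Subgroup.inv_mem _ ((hF).nW_mem _))) ?_
          simpa [v] using (hF).permAct_mul hσ ((hF).permAct_inv ((hF).nW_mem _) (hact v))
        exact ⟨(v, ⟨_, hd⟩), Subtype.ext (Subtype.ext (Subtype.ext (inv_mul_cancel_right _ _)))⟩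
    rw [← Nat.card_eq_of_bijective _ hb, Nat.card_prod,
      Nat.card_eq_fintype_card (α := {σ // σ ∈ stabFin chevG2 c}), Fintype.card_coe, mul_comm]
  -- the r-parts
  have hr4 : ¬ r ^ 4 ∣ s := fun h => by
    have h1 := Nat.le_of_dvd hs0 h
    have h2 := Nat.pow_le_pow_left hr.two_le 4
    omega
  have hcong : S ≡ s [MOD r ^ 4] := by
    have h1 : Nat.card K ≡ 1 [MOD r ^ 4] :=
      ((Nat.modEq_iff_dvd' Nat.card_pos).2 hQ).symm
    simp only [S, s, Finset.card_eq_sum_ones]
    exact Nat.ModEq.sum fun σ _ => by simpa using h1.pow _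
  have hS : ∀ e, r ^ e ∣ S → r ^ e ∣ s := by
    intro e he
    rcases Nat.lt_or_ge e 5 with h | h
    · exact (Nat.ModEq.dvd_iff hcong (pow_dvd_pow r (by omega))).1 he
    · exact absurd ((Nat.ModEq.dvd_iff hcong dvd_rfl).1 ((pow_dvd_pow r (by omega : 4 ≤ e)).trans he)) hr4
  obtain ⟨R⟩ : Nonempty (Sylow r ↥Nm) := inferInstance
  have hRc : Nat.card ↥((R : Subgroup ↥Nm).map Nm.subtype) = r ^ (Nat.card ↥Z).factorization r := by
    rw [Subgroup.card_map_of_injective (Subgroup.subtype_injective _), R.card_eq_multiplicity]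
    congr 1
    refine le_antisymm ((Nat.factorization_le_iff_dvd Nat.card_pos.ne' Nat.card_pos.ne').2
      (Subgroup.card_subgroup_dvd_card Nm) r) ?_
    have hQ0 : Nat.card K ≠ 0 := Nat.card_pos.ne'
    have hS0 : S ≠ 0 := by
      have : Nat.card ↥Z ≠ 0 := Nat.card_pos.ne'
      rw [hZ] at this
      exact fun e => this (by rw [e, mul_zero])
    have hH0 : Nat.card ↥(chevG2.diagonalSubgroup K) ≠ 0 := Nat.card_pos.ne'
    have hrQ : ¬ r ∣ Nat.card K ^ posT chevG2 c := fun h => by
      have h1 := hr.dvd_of_dvd_pow h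
      have h2 : r ∣ Nat.card K - 1 := (dvd_pow_self r (by norm_num)).trans hQ
      have h3 := Nat.dvd_sub h1 h2
      rw [show Nat.card K - (Nat.card K - 1) = 1 by have : 0 < Nat.card K := Nat.card_pos; omega] at h3
      exact hr.not_dvd_one h3
    calc (Nat.card ↥Z).factorization r
        = (Nat.card ↥(chevG2.diagonalSubgroup K)).factorization r + S.factorization r := by
          rw [hZ, Nat.factorization_mul (mul_ne_zero (pow_ne_zero _ hQ0) hH0) hS0,
            Nat.factorization_mul (pow_ne_zero _ hQ0) hH0, Finsupp.add_apply, Finsupp.add_apply,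
            Nat.factorization_eq_zero_of_not_dvd hrQ, zero_add]
      _ ≤ (Nat.card ↥(chevG2.diagonalSubgroup K)).factorization r + s.factorization r :=
          Nat.add_le_add_left ((hr.pow_dvd_iff_le_factorization hs0.ne').1
            (hS _ ((hr.pow_dvd_iff_le_factorization hS0).2 le_rfl))) _
      _ = (Nat.card ↥(chevG2.diagonalSubgroup K) * s).factorization r := by
          rw [Nat.factorization_mul hH0 hs0.ne', Finsupp.add_apply]
      _ ≤ _ := (Nat.factorization_le_iff_dvd (mul_ne_zero hH0 hs0.ne') Nat.card_pos.ne').2 hN r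
  let P : Sylow r ↥Z := Sylow.ofCard _ hRc
  -- conjugation
  set y : ↥Z := ⟨⟨g, hg⟩, Subgroup.mem_centralizer_singleton_iff.2 (Subtype.ext hgc)⟩
  have hyp : IsPGroup r ↥(Subgroup.zpowers y) := IsPGroup.of_card (n := (Nat.log r (orderOf y))) (by
    obtain ⟨i, -, hi⟩ := (Nat.dvd_prime_pow hr).1 (orderOf_dvd_of_pow_eq_one
      (show y ^ r ^ k = 1 from Subtype.ext (Subtype.ext hpow)))
    rw [Nat.card_zpowers, hi, Nat.log_pow hr.one_lt])
  obtain ⟨P', hP'⟩ := hyp.exists_le_sylow
  obtain ⟨z, hz⟩ := MulAction.exists_smul_eq ↥Z P' P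
  have hmem : z * y * z⁻¹ ∈ (P : Subgroup ↥Z) := by
    rw [← hz]
    exact ⟨y, hP' (Subgroup.mem_zpowers y), rfl⟩
  have hm : (((z * y * z⁻¹ : ↥Z) : ↥(chevG2.group K)) : GL chevG2.Idx K) ∈
      chevG2.monomialSubgroup K := by
    obtain ⟨u, -, hu⟩ := hmem
    rw [← hu]
    exact Subgroup.mem_subgroupOf.1 (Subgroup.mem_subgroupOf.1 u.2)
  set zg : GL chevG2.Idx K := ((z : ↥(chevG2.group K)) : GL chevG2.Idx K)
  have hzc : Commute zg (hT chevG2 c) :=
    congrArg Subtype.val (Subgroup.mem_centralizer_singleton_iff.1 z.2)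
  have hz' : zg ∈ chevG2.group K := (z : ↥(chevG2.group K)).2
  have hcm : Commute (zg * g * zg⁻¹) (hT chevG2 c) := (hzc.mul_left hgc).mul_left hzc.inv_left
  obtain ⟨L, i1, i2, ι, w, hw, hwc, hwd⟩ := good_mono (k := k) hr hrK hQ c (m := zg * g * zg⁻¹) hm hcm
    (by rw [conj_pow, hpow, mul_one, mul_inv_cancel])
  refine ⟨L, i1, i2, ι, w * extG chevG2 ι zg, Subgroup.mul_mem _ hw (extG_mem_group ι hF hz'),
    hwc.mul_left (hzc.map _), ?_⟩
  rw [map_mul, map_mul, map_inv] at hwd
  convert hwd using 1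
  group

/-- Elements of prime power order commuting with a torus element. -/
theorem good {r k : ℕ} (hr : r.Prime) (hrK : (r : K) ≠ 0) (c : ℕ → Kˣ) {g : GL chevG2.Idx K}
    (hg : g ∈ chevG2.group K) (hgc : Commute g (hT chevG2 c)) (hpow : g ^ r ^ k = 1) :
    Good K c g := by
  obtain ⟨L, iL, iF, ι, hQ, -⟩ := exists_ext (K := K) hr hrK
  refine Good.step ι (Subgroup.one_mem _) (Commute.one_left _) (by rw [one_mul, inv_one, mul_one])
    (good_big (k := k) hr (by rw [← map_natCast ι]; exact (map_ne_zero ι).2 hrK) hQ _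
      (extG_mem_group ι hF hg) ?_ (by rw [← map_pow, hpow, map_one]))
  rw [← extG_hT]
  exact hgc.map _

/-- Elements of order prime to the characteristic are diagonalisable over an extension. -/
theorem exists_diag_semisimple : ∀ (N : ℕ) (K : Type) [Field K] [Finite K] (x : GL chevG2.Idx K),
    x ∈ chevG2.group K → x ^ N = 1 → (N : K) ≠ 0 →
    ∃ (L : Type) (_ : Field L) (_ : Finite L) (ι : K →+* L), ∃ z ∈ chevG2.group L,
      z * extG chevG2 ι x * z⁻¹ ∈ chevG2.diagonalSubgroup L := by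
  intro N
  induction N using Nat.strong_induction_on with
  | _ N ih =>
    intro K _ _ x hx hpow hN
    rcases Nat.lt_or_ge N 2 with h | h
    · have h1 : N = 1 := by
        rcases Nat.lt_or_ge N 1 with h0 | h0
        · exact absurd (by simp [show N = 0 by omega]) hN
        · omega
      rw [h1, pow_one] at hpow
      exact ⟨K, inferInstance, inferInstance, RingHom.id K, 1, Subgroup.one_mem _,
        by rw [hpow, map_one, one_mul, one_mul, inv_one]; exact Subgroup.one_mem _⟩
    obtain ⟨r, hr, hrN⟩ := Nat.exists_prime_and_dvd (by omega : N ≠ 1)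
    obtain ⟨k, M, hrM, rfl⟩ := Nat.exists_eq_pow_mul_and_not_dvd (by omega : N ≠ 0) r hr.ne_one
    have hk : k ≠ 0 := by
      rintro rfl
      rw [pow_zero, one_mul] at hrN
      exact hrM hrN
    rw [Nat.cast_mul, Nat.cast_pow, mul_ne_zero_iff] at hN
    have hrK : (r : K) ≠ 0 := fun e => hN.1 (by rw [e, zero_pow hk])
    have hM0 : M ≠ 0 := by rintro rfl; exact hN.2 (by simp)
    have hlt : M < r ^ k * M := by
      have := Nat.one_lt_pow hk hr.one_lt
      nlinarith [Nat.pos_of_ne_zero hM0]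
    have hcop : IsCoprime ((r ^ k : ℕ) : ℤ) (M : ℤ) :=
      Int.isCoprime_iff_nat_coprime.2 (by
        simpa using Nat.Coprime.pow_left k (hr.coprime_iff_not_dvd.2 hrM))
    obtain ⟨a, b, hab⟩ := hcop
    set x1 := x ^ ((M : ℤ) * b)
    set x2 := x ^ (((r ^ k : ℕ) : ℤ) * a)
    have hx12 : x2 * x1 = x := by
      rw [← zpow_add, mul_comm ((r ^ k : ℕ) : ℤ), mul_comm (M : ℤ), hab, zpow_one]
    have hz : ∀ n : ℤ, x ^ (((r ^ k * M : ℕ) : ℤ) * n) = 1 := fun n => by
      rw [zpow_mul, zpow_natCast, hpow, one_zpow]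
    have h2 : x2 ^ M = 1 := by
      rw [← zpow_natCast, ← zpow_mul]
      refine Eq.trans ?_ (hz a)
      congr 1; push_cast; ring
    have h1 : x1 ^ r ^ k = 1 := by
      rw [← zpow_natCast, ← zpow_mul]
      refine Eq.trans ?_ (hz b)
      congr 1; push_cast; ring
    obtain ⟨L, iL, iF, ι, z, hzG, hzd⟩ := ih M hlt K x2 (Subgroup.zpow_mem _ hx _) h2 hN.2
    obtain ⟨c, hc⟩ := (hF).mem_diagonal_iff.1 hzd
    have hcomm : Commute x1 x2 := Commute.zpow_zpow (Commute.refl x) _ _
    obtain ⟨L', iL', iF', η, y, hyG, hyc, hyd⟩ := good (k := k) hr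
      (by rw [← map_natCast ι]; exact (map_ne_zero ι).2 hrK) c
      (g := z * extG chevG2 ι x1 * z⁻¹)
      (Subgroup.mul_mem _ (Subgroup.mul_mem _ hzG (extG_mem_group ι hF (Subgroup.zpow_mem _ hx _)))
        (Subgroup.inv_mem _ hzG))
      (by
        rw [← hc]
        show z * extG chevG2 ι x1 * z⁻¹ * (z * extG chevG2 ι x2 * z⁻¹) = _
        calc z * extG chevG2 ι x1 * z⁻¹ * (z * extG chevG2 ι x2 * z⁻¹)
            = z * (extG chevG2 ι x1 * extG chevG2 ι x2) * z⁻¹ := by group
          _ = z * (extG chevG2 ι x2 * extG chevG2 ι x1) * z⁻¹ := by rw [(hcomm.map _).eq]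
          _ = _ := by group)
      (by rw [conj_pow, ← map_pow, h1, map_one, mul_one, mul_inv_cancel])
    refine ⟨L', iL', iF', η.comp ι, y * extG chevG2 η z,
      Subgroup.mul_mem _ hyG (extG_mem_group η hF hzG), ?_⟩
    rw [← extG_comp, ← hx12, map_mul, map_mul]
    have e2 : y * extG chevG2 η (hT chevG2 c) * y⁻¹ ∈ chevG2.diagonalSubgroup L' := by
      rw [hyc.eq, mul_inv_cancel_right, extG_hT]
      exact (hF).mem_diagonal_iff.2 ⟨_, rfl⟩
    rw [← hc, map_mul, map_mul, map_inv] at e2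
    rw [map_mul, map_mul, map_inv] at hyd
    convert Subgroup.mul_mem _ e2 hyd using 1
    group

end CfsgLib.Chev.G2Orders
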